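import Groth.Prelude.Def_Brnch
import Mathlib

/-!
# Branches of a local ring from a normal finite birational algebra

If `A → C` is integral with nilpotent kernel, `C` is normal and some `s` in `A`, a nonzerodivisor on
`C`, moves `C` into the image of `A`, then the branches of `A` are the maximal ideals of `C`.
-/

set_option autoImplicit false
set_option linter.style.haveILetI false

universe u

namespace Groth.ModelsGraphs.PicCount

open nonZeroDivisors

variable {C : Type u} [CommRing C]

/-- A ring with normal domains as localizations at maximal ideals is integrally closed in its total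
ring of fractions. -/
theorem exists_eq_of_isIntegral
    (hn : ∀ M : MaximalSpectrum C, IsDomain (Localization.AtPrime M.asIdeal) ∧
      IsIntegrallyClosed (Localization.AtPrime M.asIdeal))
    {z : FractionRing C} (hz : IsIntegral C z) : ∃ c : C, algebraMap C (FractionRing C) c = z := by
  obtain ⟨⟨a, t⟩, hat⟩ := IsLocalization.surj C⁰ z
  let I : Ideal C := Submodule.colon (Ideal.span {(t : C)}) {a}
  have hI : I = ⊤ := by
    by_contra hne
    obtain ⟨M, hM, hIM⟩ := Ideal.exists_le_maximal I hne
    obtain ⟨hd, hc⟩ := hn ⟨M, hM⟩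
    let L := Localization.AtPrime M
    haveI : IsDomain L := hd
    haveI : IsIntegrallyClosed L := hc
    let K := FractionRing L
    have ht : ∀ y : C⁰, IsUnit (((algebraMap L K).comp (algebraMap C L)) y) := fun y => by
      refine isUnit_iff_ne_zero.2 fun h0 => ?_
      have h1 : algebraMap C L y = 0 := IsFractionRing.injective L K (by rw [map_zero]; exact h0)
      obtain ⟨v, hv⟩ := (IsLocalization.map_eq_zero_iff M.primeCompl L _).1 h1
      exact v.2 (by rw [(mem_nonZeroDivisors_iff_right.1 y.2) _ hv]; exact M.zero_mem)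
    let g : FractionRing C →+* K := IsLocalization.lift ht
    have hg : g.comp (algebraMap C (FractionRing C)) = (algebraMap L K).comp (algebraMap C L) :=
      IsLocalization.lift_comp ht
    have hgz : IsIntegral L (g z) := hz.map_of_comp_eq (algebraMap C L) g hg.symm
    obtain ⟨w, hw⟩ := IsIntegrallyClosed.algebraMap_eq_of_integral hgz
    obtain ⟨⟨b, v⟩, hbv⟩ := IsLocalization.surj M.primeCompl w
    have h2 : algebraMap C L (a * v) = algebraMap C L (b * t) := by
      refine IsFractionRing.injective L K ?_
      have e1 : g z * algebraMap L K (algebraMap C L t) = algebraMap L K (algebraMap C L a) := by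
        have := congrArg g hat
        rw [map_mul] at this
        rwa [show g (algebraMap C (FractionRing C) (t : C)) = _ from RingHom.congr_fun hg (t : C),
          show g (algebraMap C (FractionRing C) a) = _ from RingHom.congr_fun hg a] at this
      have e2 : algebraMap L K w * algebraMap L K (algebraMap C L v) = algebraMap L K (algebraMap C L b) := by
        rw [← map_mul]
        exact congrArg _ hbv
      rw [map_mul, map_mul, map_mul, map_mul, ← e1, ← e2, hw]
      ring
    obtain ⟨v', hv'⟩ := (IsLocalization.eq_iff_exists M.primeCompl L).1 h2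
    have hmem : (v' : C) * v ∈ I := by
      rw [Submodule.mem_colon_singleton, Ideal.mem_span_singleton']
      exact ⟨v' * b, by rw [smul_eq_mul]; linear_combination -hv'⟩
    exact (v' * v : M.primeCompl).2 (hIM hmem)
  have h1 : (1 : C) ∈ I := hI ▸ Submodule.mem_top
  rw [Submodule.mem_colon_singleton, one_smul, Ideal.mem_span_singleton'] at h1
  obtain ⟨c, hc⟩ := h1
  refine ⟨c, (IsLocalization.map_units (FractionRing C) t).mul_right_cancel ?_⟩
  rw [hat, ← map_mul, hc]

/-- The branches of `A` are the maximal ideals of a normal birational algebra. -/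
theorem numBranches_eq_card (A : Type u) [CommRing A] [IsLocalRing A] [IsNoetherianRing A] [IsReduced C]
    (φ : A →+* C) (hint : φ.IsIntegral) (hker : RingHom.ker φ ≤ nilradical A)
    (hn : ∀ M : MaximalSpectrum C, IsDomain (Localization.AtPrime M.asIdeal) ∧
      IsIntegrallyClosed (Localization.AtPrime M.asIdeal))
    (s : A) (hs : φ s ∈ C⁰) (hcond : ∀ c, ∃ a, φ a = φ s * c) :
    Brnch.numBranches A = ENat.card (MaximalSpectrum C) := by
  let R := CAlg2.red A
  let ρ : R →+* C := Ideal.Quotient.lift _ φ fun a ha => by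
    obtain ⟨n, hn⟩ := mem_nilradical.1 ha
    exact (IsNilpotent.eq_zero ⟨n, by rw [← map_pow, hn, map_zero]⟩)
  have hρ : ∀ a, ρ (Ideal.Quotient.mk _ a) = φ a := fun _ => rfl
  have hinj : Function.Injective ρ := (injective_iff_map_eq_zero ρ).2 fun r hr => by
    obtain ⟨a, rfl⟩ := Ideal.Quotient.mk_surjective r
    exact Ideal.Quotient.eq_zero_iff_mem.2 (hker hr)
  have hnzd : R⁰ ≤ C⁰.comap ρ := fun t ht => by
    rw [Submonoid.mem_comap, mem_nonZeroDivisors_iff_right]
    intro c hc
    obtain ⟨a, ha⟩ := hcond c
    have h1 : ρ (Ideal.Quotient.mk _ a * t) = 0 := by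
      rw [map_mul, hρ, ha, mul_assoc, hc, mul_zero]
    have h2 := (mem_nonZeroDivisors_iff_right.1 ht) _ (hinj (h1.trans (map_zero ρ).symm))
    rw [← hρ, h2, map_zero, eq_comm, mul_comm] at ha
    exact (mem_nonZeroDivisors_iff_right.1 hs) c ha
  let Q := FractionRing R
  let L := FractionRing C
  let ψ : Q →+* L := IsLocalization.map L ρ hnzd
  have hψ : Function.Injective ψ := by
    refine (injective_iff_map_eq_zero ψ).2 fun q hq => ?_
    obtain ⟨⟨a, t⟩, hat⟩ := IsLocalization.surj R⁰ q
    have h1 := congrArg ψ hat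
    rw [map_mul, hq, zero_mul] at h1
    have h2 : algebraMap C L (ρ a) = 0 := (IsLocalization.map_eq (Q := L) hnzd a).symm.trans h1.symm
    have h3 : a = 0 := hinj ((IsFractionRing.injective C L (h2.trans (map_zero _).symm)).trans (map_zero ρ).symm)
    rw [h3, map_zero] at hat
    exact (IsLocalization.map_units Q t).mul_left_eq_zero.1 hat
  have hψa : ∀ r, ψ (algebraMap R Q r) = algebraMap C L (ρ r) := fun r => IsLocalization.map_eq hnzd r
  have hsR : Ideal.Quotient.mk _ s ∈ R⁰ := mem_nonZeroDivisors_iff_right.2 fun r hr => hinj (by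
    rw [map_zero]
    exact (mem_nonZeroDivisors_iff_right.1 hs) _ (by rw [← hρ, ← map_mul, hr, map_zero]))
  choose num hnum using hcond
  let Φ : C → Q := fun c => IsLocalization.mk' Q (Ideal.Quotient.mk _ (num c) : R) (⟨_, hsR⟩ : R⁰)
  have hΦ : ∀ c, ψ (Φ c) = algebraMap C L c := fun c => by
    refine (IsLocalization.map_units L (⟨φ s, hs⟩ : C⁰)).mul_right_cancel ?_
    show ψ (Φ c) * algebraMap C L (φ s) = algebraMap C L c * algebraMap C L (φ s)
    have h1 : ψ (Φ c) * ψ (algebraMap R Q (Ideal.Quotient.mk _ s)) =
        ψ (algebraMap R Q (Ideal.Quotient.mk _ (num c))) := by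
      rw [← map_mul ψ]
      exact congrArg ψ (IsLocalization.mk'_spec Q _ _)
    rw [hψa, hψa, hρ, hρ, hnum, map_mul] at h1
    exact h1.trans (mul_comm _ _)
  have hΦint : ∀ c, IsIntegral R (Φ c) := fun c => by
    obtain ⟨p, hp, hpc⟩ := hint c
    refine ⟨p.map (Ideal.Quotient.mk _), hp.map _, hψ ?_⟩
    rw [map_zero, Polynomial.eval₂_map, Polynomial.hom_eval₂, hΦ,
      show ψ.comp ((algebraMap R Q).comp (Ideal.Quotient.mk (nilradical A))) = (algebraMap C L).comp φ from
        RingHom.ext fun a => (hψa _).trans (congrArg _ (hρ a)),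
      ← Polynomial.hom_eval₂, hpc, map_zero]
  have hex : ∀ z : CAlg2.normRed A, ∃ c : C, algebraMap C L c = ψ z.1 := fun z =>
    exists_eq_of_isIntegral hn (z.2.map_of_comp_eq ρ ψ (RingHom.ext fun r => (hψa r).symm))
  choose inv hinv using hex
  let e : C ≃+* CAlg2.normRed A :=
    { toFun := fun c => ⟨Φ c, hΦint c⟩
      invFun := inv
      left_inv := fun c => IsFractionRing.injective C L ((hinv _).trans (hΦ c))
      right_inv := fun z => Subtype.ext (hψ ((hΦ _).trans (hinv z)))
      map_mul' := fun a b => Subtype.ext (hψ (by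
        show ψ (Φ (a * b)) = ψ (Φ a * Φ b)
        rw [map_mul ψ, hΦ, hΦ, hΦ, map_mul]))
      map_add' := fun a b => Subtype.ext (hψ (by
        show ψ (Φ (a + b)) = ψ (Φ a + Φ b)
        rw [map_add ψ, hΦ, hΦ, hΦ, map_add])) }
  let Ψ : MaximalSpectrum C ≃ MaximalSpectrum (CAlg2.normRed A) :=
    { toFun := fun m => ⟨m.asIdeal.map e.toRingHom, Ideal.map_isMaximal_of_equiv e⟩
      invFun := fun m => ⟨m.asIdeal.map e.symm.toRingHom, Ideal.map_isMaximal_of_equiv e.symm⟩
      left_inv := fun m => MaximalSpectrum.ext (by simp [Ideal.map_map])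
      right_inv := fun m => MaximalSpectrum.ext (by simp [Ideal.map_map]) }
  rw [Brnch.numBranches, if_pos (minimalPrimes.finite_of_isNoetherianRing A)]
  exact (ENat.card_congr Ψ).symm

end Groth.ModelsGraphs.PicCount
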