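import Groth.Agent.ModelsGraphs.PicCount.Eval
import Groth.Agent.ModelsGraphs.PicDiv.Descend

/-!
# A conductor at a point of a finite birational map of curves
-/

set_option autoImplicit false
set_option linter.style.haveILetI false
set_option backward.isDefEq.respectTransparency false
set_option backward.isDefEq.respectTransparency.types false

universe u

open CategoryTheory AlgebraicGeometry Opposite TopologicalSpace
open Groth.PicAux (resX)

namespace Groth.ModelsGraphs.PicCount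

set_option maxHeartbeats 800000

variable {k : Type u} [Field k] [IsAlgClosed k] {W Y : Scheme.{u}} (ν : W ⟶ Y) [IsFinite ν]
  (f : Y ⟶ Spec (CommRingCat.of k)) [LocallyOfFiniteType f]
  (g : W ⟶ Spec (CommRingCat.of k)) [LocallyOfFiniteType g] (hν : ν ≫ f = g)

/-- Constants. -/
noncomputable def cst (V : Y.Opens) : k →+* Γ(Y, V) :=
  (Y.presheaf.map (homOfLE (le_top : V ≤ ⊤)).op).hom.comp (Coh.toGlobal f)

theorem evPt_cst {x : Y} (hx : IsClosed ({x} : Set Y)) {V : Y.Opens} (hxV : x ∈ V) (c : k) :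
    evPt f hx V hxV (cst f V c) = c :=
  evPt_const f hx hxV c

include hν in
theorem evPt_app_of_eq {w : W} (hw : IsClosed ({w} : Set W)) {x : Y} (hwx : ν w = x)
    (hx : IsClosed ({x} : Set Y)) {V : Y.Opens} (hwV : w ∈ ν ⁻¹ᵁ V) (hxV : x ∈ V) (r : Γ(Y, V)) :
    evPt g hw (ν ⁻¹ᵁ V) hwV (ν.app V r) = evPt f hx V hxV r := by
  subst hwx
  exact evPt_app g f ν hν hw hx hxV r

/-- Data at a point. -/
structure Conductor (x : Y) (hx : IsClosed ({x} : Set Y)) (V : Y.Opens) (hxV : x ∈ V) where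
  J : Ideal Γ(W, ν ⁻¹ᵁ V)
  mem_range : ∀ b ∈ J, ∃ a : Γ(Y, V), ν.app V a = b
  artinian : IsArtinianRing (Γ(W, ν ⁻¹ᵁ V) ⧸ J)
  artinian' : IsArtinianRing (Γ(Y, V) ⧸ J.comap (ν.app V).hom)
  finite' : letI := ((Ideal.Quotient.mk (J.comap (ν.app V).hom)).comp (cst f V)).toAlgebra
    Module.Finite k (Γ(Y, V) ⧸ J.comap (ν.app V).hom)
  le_ker : ∀ (w : W) (hw : IsClosed ({w} : Set W)) (hwV : w ∈ ν ⁻¹ᵁ V), ν w = x →
    J ≤ RingHom.ker (evPt g hw (ν ⁻¹ᵁ V) hwV)
  exists_point : ∀ M : Ideal Γ(W, ν ⁻¹ᵁ V), M.IsMaximal → J ≤ M →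
    ∃ (w : W) (hw : IsClosed ({w} : Set W)) (hwV : w ∈ ν ⁻¹ᵁ V), ν w = x ∧
      M = RingHom.ker (evPt g hw (ν ⁻¹ᵁ V) hwV)
  exists_nzd : ∀ (T : Finset (Ideal Γ(W, ν ⁻¹ᵁ V))), (∀ P ∈ T, P.IsPrime) →
    (∀ P ∈ T, ∃ a : Γ(Y, V), ν.app V a ∉ P ∧ evPt f hx V (hxV) a = 0) →
    ∃ s : Γ(Y, V), ν.app V s ∈ J ∧ ∀ P ∈ T, ν.app V s ∉ P

variable (S : Set Y) (hb : ∀ V : Y.Opens, (∀ x ∈ V, x ∉ S) → Function.Bijective (ν.app V))

include hν hb in
/-- Existence of a conductor. -/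
theorem exists_conductor {V : Y.Opens} (hV : IsAffineOpen V) {x : Y} (hxV : x ∈ V)
    (hx : IsClosed ({x} : Set Y)) (hVS : ∀ y ∈ V, y ∈ S → y = x) :
    Nonempty (Conductor ν f g x hx V hxV) := by
  classical
  let A := Γ(Y, V)
  let B := Γ(W, ν ⁻¹ᵁ V)
  have hBaff : IsAffineOpen (ν ⁻¹ᵁ V) := hV.preimage ν
  letI : Algebra A B := (ν.app V).hom.toAlgebra
  haveI : Module.Finite A B := IsFinite.finite_app (f := ν) V hV
  letI : Algebra k A := (cst f V).toAlgebra
  haveI : Algebra.FiniteType k A := by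
    have h1 := f.finiteType_appLE (isAffineOpen_top _) hV (show V ≤ f ⁻¹ᵁ ⊤ by simp)
    have h2 : (Scheme.ΓSpecIso (CommRingCat.of k)).inv.hom.FiniteType :=
      RingHom.FiniteType.of_surjective _
        (Scheme.ΓSpecIso (CommRingCat.of k)).symm.commRingCatIsoToRingEquiv.surjective
    exact (h1.comp h2 :)
  haveI : IsNoetherianRing A := Algebra.FiniteType.isNoetherianRing k A
  let p := hV.primeIdealOf ⟨x, hxV⟩
  haveI hpmax : p.asIdeal.IsMaximal := by
    rw [← PrimeSpectrum.isClosed_singleton_iff_isMaximal]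
    have he : ({p} : Set (PrimeSpectrum Γ(Y, V))) = hV.fromSpec.base ⁻¹' {x} := Set.ext fun z =>
      ⟨fun h => by
        rw [Set.mem_singleton_iff] at h
        subst h
        exact hV.fromSpec_primeIdealOf ⟨x, hxV⟩,
      fun h => hV.fromSpec.isEmbedding.injective ((show hV.fromSpec.base z = x from h).trans
        (hV.fromSpec_primeIdealOf ⟨x, hxV⟩).symm)⟩
    rw [he]
    exact hx.preimage hV.fromSpec.continuous
  have hmem : ∀ a : A, x ∈ Y.basicOpen a ↔ a ∉ p.asIdeal := fun a =>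
    Groth.VarietyBC.AffineUnion.mem_basicOpen_iff hV x hxV a
  have hp0 : ∀ a : A, a ∈ p.asIdeal ↔ evPt f hx V hxV a = 0 := fun a => by
    rw [← not_iff_not, ← hmem]
    exact (evPt_ne_zero_iff f hx hxV a).symm
  have hloc : ∀ a ∈ p.asIdeal, ∀ b : B, ∃ (n : ℕ) (a' : A), algebraMap A B a' = a ^ n • b := by
    intro a ha b
    have hDS : ∀ y ∈ Y.basicOpen a, y ∉ S := fun y hy hyS => by
      have := hVS y (Y.basicOpen_le a hy) hyS
      exact (hmem a).1 (this ▸ hy) ha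
    obtain ⟨c, hc⟩ := (hb _ hDS).2 (resX W (ν.preimage_mono (Y.basicOpen_le a)) b)
    haveI := hV.isLocalization_basicOpen a
    obtain ⟨n, a', ha'⟩ := IsLocalization.Away.surj a c
    haveI := hBaff.isLocalization_basicOpen (ν.app V a)
    have hres : resX W (W.basicOpen_le (ν.app V a)) (ν.app V a') =
        resX W (W.basicOpen_le (ν.app V a)) ((ν.app V a) ^ n * b) := by
      have heq : W.basicOpen (ν.app V a) = ν ⁻¹ᵁ Y.basicOpen a := (ν.preimage_basicOpen a).symm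
      have hnat : ∀ r : A, ν.app (Y.basicOpen a) (resX Y (Y.basicOpen_le a) r) =
          resX W (ν.preimage_mono (Y.basicOpen_le a)) (ν.app V r) := fun r =>
        ConcreteCategory.congr_hom (ν.naturality (homOfLE (Y.basicOpen_le a)).op) r
      have h1 : ν.app (Y.basicOpen a) (c * resX Y (Y.basicOpen_le a) a ^ n) =
          ν.app (Y.basicOpen a) (resX Y (Y.basicOpen_le a) a') := congrArg _ ha'
      rw [map_mul, map_pow, hc, hnat, hnat] at h1
      have h2 := congrArg (resX W heq.le) h1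
      simp only [map_mul, map_pow, Groth.PicAux.resX_resX] at h2
      rw [map_mul, map_pow, mul_comm]
      exact h2.symm
    obtain ⟨⟨_, m, rfl⟩, hm⟩ := (IsLocalization.eq_iff_exists (Submonoid.powers (ν.app V a))
      Γ(W, W.basicOpen (ν.app V a))).1 hres
    refine ⟨m + n, a ^ m * a', ?_⟩
    show ν.app V (a ^ m * a') = ν.app V (a ^ (m + n)) * b
    rw [map_mul, map_pow, map_pow, pow_add, mul_assoc]
    exact hm
  obtain ⟨N₀, hN₀⟩ := Groth.ModelsGraphs.PicDiv.exists_pow_le_range p.asIdeal hloc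
  let N := N₀ + 1
  have hN : ∀ a ∈ p.asIdeal ^ N, ∀ b : B, ∃ a' : A, algebraMap A B a' = a • b := fun a ha =>
    hN₀ a (Ideal.pow_le_pow_right (Nat.le_succ _) ha)
  let J : Ideal B := (p.asIdeal ^ N).map (algebraMap A B)
  have hJr : ∀ b ∈ J, ∃ a : A, ν.app V a = b := by
    intro b hb'
    have h1 : b ∈ (p.asIdeal ^ N) • (⊤ : Submodule A B) := by rw [Ideal.smul_top_eq_map]; exact hb'
    refine Submodule.smul_induction_on h1 (fun a ha c _ => hN a ha c) fun y z hy hz => ?_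
    obtain ⟨a, rfl⟩ := hy
    obtain ⟨a', rfl⟩ := hz
    exact ⟨a + a', map_add _ _ _⟩
  haveI : IsArtinianRing (A ⧸ p.asIdeal ^ N) := by
    refine isArtinianRing_iff_isNoetherianRing_krullDimLE_zero.2 ⟨inferInstance, Ring.KrullDimLE.mk₀ fun P hP => ?_⟩
    have hle : p.asIdeal ≤ P.comap (Ideal.Quotient.mk (p.asIdeal ^ N)) := fun a ha =>
      (hP.comap (Ideal.Quotient.mk (p.asIdeal ^ N))).mem_of_pow_mem N (by
        rw [Ideal.mem_comap, Ideal.Quotient.eq_zero_iff_mem.2 (Ideal.pow_mem_pow ha N)]; exact P.zero_mem)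
    have hmax : (P.comap (Ideal.Quotient.mk (p.asIdeal ^ N))).IsMaximal :=
      (hpmax.eq_of_le (hP.comap _).ne_top hle) ▸ hpmax
    have := Ideal.Quotient.mk_surjective (I := p.asIdeal ^ N)
    rw [← Ideal.map_comap_of_surjective _ this P]
    refine (Ideal.map_eq_top_or_isMaximal_of_surjective _ this hmax).resolve_left fun h => hP.ne_top ?_
    rwa [Ideal.map_comap_of_surjective _ this P] at h
  haveI : Algebra.FiniteType k (A ⧸ p.asIdeal ^ N) :=
    ‹Algebra.FiniteType k A›.of_surjective (Ideal.Quotient.mkₐ k _) Ideal.Quotient.mk_surjective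
  haveI : Module.Finite k (A ⧸ p.asIdeal ^ N) := (Module.finite_iff_isArtinianRing k _).2 inferInstance
  letI : Algebra (A ⧸ p.asIdeal ^ N) (B ⧸ J) :=
    (Ideal.quotientMap J (algebraMap A B) Ideal.le_comap_map).toAlgebra
  haveI : IsScalarTower A (A ⧸ p.asIdeal ^ N) (B ⧸ J) := IsScalarTower.of_algebraMap_eq fun a => rfl
  haveI : Module.Finite (A ⧸ p.asIdeal ^ N) (B ⧸ J) := Module.Finite.of_restrictScalars_finite A _ _
  haveI : IsArtinianRing (B ⧸ J) := IsArtinianRing.of_finite (A ⧸ p.asIdeal ^ N) _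
  let π : A ⧸ p.asIdeal ^ N →+* A ⧸ J.comap (ν.app V).hom :=
    Ideal.Quotient.factor (Ideal.le_comap_map)
  have hπ : Function.Surjective π := Ideal.Quotient.factor_surjective _
  refine ⟨⟨J, hJr, inferInstance, hπ.isArtinianRing, ?_, fun w hw hwV hwx => ?_, fun M hM hJM => ?_,
    fun T hT hTa => ?_⟩⟩
  · letI := ((Ideal.Quotient.mk (J.comap (ν.app V).hom)).comp (cst f V)).toAlgebra
    exact Module.Finite.of_surjective
      ({ π with commutes' := fun c => rfl } : A ⧸ p.asIdeal ^ N →ₐ[k] A ⧸ J.comap (ν.app V).hom).toLinearMap hπ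
  · refine Ideal.map_le_iff_le_comap.2 fun a ha => ?_
    rw [Ideal.mem_comap, RingHom.mem_ker]
    show evPt g hw (ν ⁻¹ᵁ V) hwV (ν.app V a) = 0
    rw [evPt_app_of_eq ν f g hν hw hwx hx hwV hxV]
    exact (hp0 a).1 (Ideal.pow_le_self (Nat.succ_ne_zero _) ha)
  · let q : PrimeSpectrum Γ(W, ν ⁻¹ᵁ V) := ⟨M, hM.isPrime⟩
    let w : W := hBaff.fromSpec q
    have hwV : w ∈ ν ⁻¹ᵁ V := by
      have : w ∈ Set.range hBaff.fromSpec := ⟨q, rfl⟩
      rwa [hBaff.range_fromSpec] at this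
    have hq : hBaff.primeIdealOf ⟨w, hwV⟩ = q :=
      hBaff.fromSpec.isEmbedding.injective (hBaff.fromSpec_primeIdealOf ⟨w, hwV⟩)
    have hwx : ν w = x := by
      have hνw : ν w ∈ V := hwV
      have hle : p.asIdeal ≤ (hV.primeIdealOf ⟨ν w, hνw⟩).asIdeal := fun a ha => by
        by_contra hn
        have h1 : w ∈ ν ⁻¹ᵁ Y.basicOpen a :=
          (Groth.VarietyBC.AffineUnion.mem_basicOpen_iff hV (ν w) hνw a).2 hn
        rw [Scheme.preimage_basicOpen,
          Groth.VarietyBC.AffineUnion.mem_basicOpen_iff hBaff w hwV, hq] at h1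
        exact h1 (hM.isPrime.mem_of_pow_mem N (hJM (by
          rw [← map_pow]; exact Ideal.mem_map_of_mem _ (Ideal.pow_mem_pow ha N))))
      have heq : hV.primeIdealOf ⟨ν w, hνw⟩ = p :=
        PrimeSpectrum.ext ((hpmax.eq_of_le (hV.primeIdealOf ⟨ν w, hνw⟩).isPrime.ne_top hle).symm)
      have h1 := hV.fromSpec_primeIdealOf ⟨ν w, hνw⟩
      rw [heq] at h1
      exact (h1.symm.trans (hV.fromSpec_primeIdealOf ⟨x, hxV⟩))
    have hw : IsClosed ({w} : Set W) := by
      have hfib : IsClosed (ν.base ⁻¹' {x}) := hx.preimage ν.continuous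
      haveI : DiscreteTopology ↥(ν.base ⁻¹' {x}) :=
        isDiscrete_iff_discreteTopology.1 (ν.isDiscrete_preimage_singleton x)
      have h1 : IsClosed ({⟨w, hwx⟩} : Set ↥(ν.base ⁻¹' {x})) := isClosed_discrete _
      simpa using hfib.isClosedEmbedding_subtypeVal.isClosedMap _ h1
    refine ⟨w, hw, hwV, hwx, ?_⟩
    ext b
    rw [RingHom.mem_ker, ← not_iff_not]
    refine Iff.trans ?_ (evPt_ne_zero_iff g hw hwV b).symm
    rw [Groth.VarietyBC.AffineUnion.mem_basicOpen_iff hBaff w hwV, hq]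
  · by_contra hcon
    push Not at hcon
    have hsub : ((p.asIdeal ^ N : Ideal A) : Set A) ⊆
        ⋃ P ∈ (↑T : Set (Ideal B)), ((P.comap (algebraMap A B) : Ideal A) : Set A) := fun s hs => by
      obtain ⟨P, hP, hsP⟩ := hcon s (Ideal.mem_map_of_mem _ hs)
      exact Set.mem_iUnion₂.2 ⟨P, hP, hsP⟩
    obtain ⟨P, hP, hle⟩ := (Ideal.subset_union_prime (s := T) (f := fun P => P.comap (algebraMap A B)) ⊥ ⊥
      fun P hP _ _ => (hT P hP).comap _).1 hsub
    obtain ⟨a, haP, ha0⟩ := hTa P hP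
    exact haP (((hT P hP).comap (algebraMap A B)).mem_of_pow_mem N (hle (Ideal.pow_mem_pow ((hp0 a).2 ha0) N)))

end Groth.ModelsGraphs.PicCount
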