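import Groth.Agent.ModelsGraphs.PicCount.Eval
import Groth.Agent.ModelsGraphs.PicDiv.Proper
import Groth.Agent.PicAux.Cocycle

/-!
# Functions with finitely many values
-/

set_option autoImplicit false
set_option linter.style.haveILetI false
set_option backward.isDefEq.respectTransparency false
set_option backward.isDefEq.respectTransparency.types false

universe u

open CategoryTheory AlgebraicGeometry Opposite TopologicalSpace
open Groth.PicAux (resX)

namespace Groth.ModelsGraphs.PicCount

set_option maxHeartbeats 800000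

variable {k : Type u} [Field k] [IsAlgClosed k] {W Y : Scheme.{u}}

/-- Constants as global functions. -/
noncomputable abbrev glob {Z : Scheme.{u}} (g : Z ⟶ Spec (CommRingCat.of k)) : k →+* Γ(Z, ⊤) :=
  Coh.toGlobal g

variable (g : W ⟶ Spec (CommRingCat.of k)) [LocallyOfFiniteType g]

omit [IsAlgClosed k] [LocallyOfFiniteType g] in
/-- A function with split equation takes one of the roots at each point. -/
theorem exists_mem_of_prod_eq_zero (R : Finset k) {b : Γ(W, ⊤)}
    (h : ∏ r ∈ R, (b - glob g r) = 0) (w : W) :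
    ∃ r ∈ R, w ∉ W.basicOpen (b - glob g r) := by
  by_contra hcon
  push Not at hcon
  have h1 : IsUnit (W.presheaf.germ ⊤ w trivial (∏ r ∈ R, (b - glob g r))) := by
    rw [map_prod]
    exact IsUnit.prod_iff.2 fun r hr => (Scheme.mem_basicOpen _ _ _ _).1 (hcon r hr)
  rw [h, map_zero] at h1
  exact not_isUnit_zero h1

omit [IsAlgClosed k] [LocallyOfFiniteType g] in
/-- The value is unique. -/
theorem eq_of_notMem {b : Γ(W, ⊤)} {w : W} {r r' : k} (h : w ∉ W.basicOpen (b - glob g r))
    (h' : w ∉ W.basicOpen (b - glob g r')) : r = r' := by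
  by_contra hne
  rw [Scheme.mem_basicOpen _ _ _ (Opens.mem_top w)] at h h'
  have h1 : IsUnit (W.presheaf.germ ⊤ w trivial (glob g (r' - r))) :=
    ((IsUnit.mk0 _ (sub_ne_zero.2 (Ne.symm hne))).map (glob g)).map _
  refine (IsLocalRing.isUnit_or_isUnit_of_isUnit_add (a := W.presheaf.germ ⊤ w trivial (b - glob g r))
    (b := -W.presheaf.germ ⊤ w trivial (b - glob g r')) ?_).elim h fun h2 => h' (by rw [map_sub]; have := h2.neg; rwa [neg_neg, map_sub] at this)
  convert h1 using 1
  simp only [map_sub]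
  ring

theorem evPt_eq_of_notMem {b : Γ(W, ⊤)} {w : W} (hw : IsClosed ({w} : Set W)) {r : k}
    (h : w ∉ W.basicOpen (b - glob g r)) : evPt g hw ⊤ (Opens.mem_top w) b = r := by
  have h1 : ¬ evPt g hw ⊤ (Opens.mem_top w) (b - glob g r) ≠ 0 := fun h0 =>
    h ((evPt_ne_zero_iff g hw _ _).1 h0)
  rw [not_not, map_sub, sub_eq_zero] at h1
  rw [h1]
  have h2 := evPt_const g hw (U := ⊤) (Opens.mem_top w) r
  exact (congrArg _ (Groth.PicAux.resX_self (X := W) le_rfl (glob g r)).symm).trans h2

/-- Roots of unity among the functions are locally constant roots of unity. -/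
theorem exists_locallyConstant {n : ℕ} (hn : (n : k) ≠ 0) {b : Γ(W, ⊤)} (hb : b ^ n = 1) :
    ∃ μ : LocallyConstant W (rootsOfUnity n k), ∀ (w : W) (hw : IsClosed ({w} : Set W)),
      evPt g hw ⊤ (Opens.mem_top w) b = ((μ w : kˣ) : k) := by
  classical
  haveI : NeZero n := ⟨fun h => hn (by rw [h, Nat.cast_zero])⟩
  haveI : NeZero (n : k) := ⟨hn⟩
  obtain ⟨z, hz⟩ := HasEnoughRootsOfUnity.exists_primitiveRoot k n
  have hnz : 0 < n := NeZero.pos n
  have hprod : ∏ r ∈ Polynomial.nthRootsFinset n (1 : k), (b - glob g r) = 0 := by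
    have h1 := congrArg (Polynomial.eval₂ (glob g) b) (Polynomial.X_pow_sub_one_eq_prod hnz hz)
    simp only [Polynomial.eval₂_sub, Polynomial.eval₂_X_pow, Polynomial.eval₂_one, hb, sub_self,
      Polynomial.eval₂_finsetProd, Polynomial.eval₂_X, Polynomial.eval₂_C] at h1
    exact h1.symm
  choose r hr hrw using exists_mem_of_prod_eq_zero g _ hprod
  have hr' : ∀ w, r w ^ n = 1 := fun w => (Polynomial.mem_nthRootsFinset hnz _).1 (hr w)
  let μ : W → rootsOfUnity n k := fun w => rootsOfUnity.mkOfPowEq (r w) (hr' w)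
  refine ⟨⟨μ, (IsLocallyConstant.iff_exists_open _).2 fun w => ?_⟩, fun w hw => ?_⟩
  · refine ⟨⋂ s ∈ (Polynomial.nthRootsFinset n (1 : k)).erase (r w),
      (W.basicOpen (b - glob g s) : Set W),
      isOpen_biInter_finset fun s _ => (W.basicOpen _).isOpen, Set.mem_iInter₂.2 fun s hs => ?_,
      fun v hv => ?_⟩
    · by_contra hcon
      exact (Finset.mem_erase.1 hs).1 (eq_of_notMem g hcon (hrw w))
    · refine Subtype.ext (Units.ext ?_)
      show r v = r w
      by_contra hne
      exact hrw v (Set.mem_iInter₂.1 hv (r v) (Finset.mem_erase.2 ⟨hne, hr v⟩))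
  · exact evPt_eq_of_notMem g hw (hrw w)

/-- Locally constant roots of unity are functions. -/
theorem exists_section {n : ℕ} (μ : LocallyConstant W (rootsOfUnity n k)) :
    ∃ b : Γ(W, ⊤), b ^ n = 1 ∧ ∀ (w : W) (hw : IsClosed ({w} : Set W)),
      evPt g hw ⊤ (Opens.mem_top w) b = ((μ w : kˣ) : k) := by
  classical
  let V : W → W.Opens := fun w => ⟨μ ⁻¹' {μ w}, μ.isLocallyConstant.isOpen_fiber _⟩
  obtain ⟨b, hb, -⟩ := Groth.PicAux.resX_glue V (fun _ => le_top)
    (fun w _ => Opens.mem_iSup.2 ⟨w, (rfl : μ w = μ w)⟩)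
    (fun w => resX W le_top (glob g ((μ w : kˣ) : k))) fun i j => by
      simp only [Groth.PicAux.resX_resX]
      by_cases h : μ i = μ j
      · rw [h]
      · haveI : Subsingleton Γ(W, V i ⊓ V j) := by
          rw [show V i ⊓ V j = ⊥ from Opens.ext (Set.eq_empty_iff_forall_notMem.2 fun z hz =>
            h ((show μ z = μ i from hz.1).symm.trans hz.2))]
          exact CommRingCat.subsingleton_of_isTerminal W.sheaf.isTerminalOfEmpty
        exact Subsingleton.elim _ _
  refine ⟨b, Groth.PicAux.resX_ext V (fun _ => le_top)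
    (fun w _ => Opens.mem_iSup.2 ⟨w, (rfl : μ w = μ w)⟩) fun w => ?_, fun w hw => ?_⟩
  · rw [map_pow, hb w, ← map_pow, ← map_pow, ← Units.val_pow_eq_pow_val,
      (mem_rootsOfUnity n _).1 (μ w).2, Units.val_one, map_one, map_one]
  · rw [← evPt_res g hw (le_top : V w ≤ ⊤) (show μ w = μ w from rfl) b]
    exact (congrArg _ (hb w)).trans (evPt_const g hw _ _)

variable (f : Y ⟶ Spec (CommRingCat.of k))

/-- Functions on a proper reduced connected scheme are constant. -/
theorem exists_eq_toGlobal [IsProper f] [IsReduced Y] [ConnectedSpace Y] (b : Γ(Y, ⊤)) :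
    ∃ c : k, b = glob f c := by
  classical
  haveI : CompactSpace Y := QuasiCompact.compactSpace_of_compactSpace f
  haveI : IsLocallyNoetherian Y := LocallyOfFiniteType.isLocallyNoetherian f
  haveI : IsNoetherian Y := ⟨⟩
  letI : Algebra k Γ(Y, ⊤) := (show k →+* Γ(Y, ⊤) from Coh.toGlobal f).toAlgebra
  haveI : Module.Finite k Γ(Y, ⊤) := by
    have hfin := Groth.CohFin.hFin_of_proper Groth.CohFin.projFinite 0 Y f (Coh.structureModule Y)
      (Groth.Inter.isCoh_of_isInvertible (PicLoc.isInvertible_structureModule Y))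
    let eS := Groth.CohFin.equivSections f (Coh.structureModule Y)
    let sec : Groth.CohFin.HA f (Coh.structureModule Y) 0 ≃ₗ[k] Γ(Y, ⊤) :=
      { toFun := fun x => (eS x : Γ(Coh.structureModule Y, ⊤))
        invFun := fun s => eS.symm (s : Γ(Coh.structureModule Y, ⊤))
        left_inv := eS.symm_apply_apply
        right_inv := eS.apply_symm_apply
        map_add' := eS.map_add
        map_smul' := fun r x => Groth.CohFin.equivSections_smul f (Coh.structureModule Y) r x }
    haveI := hfin
    exact Module.Finite.equiv sec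
  obtain ⟨P, hP, hPb⟩ := Algebra.IsIntegral.isIntegral (R := k) b
  have hs := IsAlgClosed.splits P
  rw [hs.eq_prod_roots_of_monic hP] at hPb
  have hprod : (P.roots.map fun r => b - glob f r).prod = 0 := by
    have h1 := hPb
    rw [Polynomial.eval₂_multiset_prod, Multiset.map_map] at h1
    simp only [Function.comp_def, Polynomial.eval₂_sub, Polynomial.eval₂_X, Polynomial.eval₂_C] at h1
    exact h1
  have hnil : ∀ y : Y, ∃ r ∈ P.roots.toFinset, y ∉ Y.basicOpen (b - glob f r) := fun y => by
    by_contra hcon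
    push Not at hcon
    have h1 : IsUnit (Y.presheaf.germ ⊤ y trivial (P.roots.map fun r => b - glob f r).prod) := by
      rw [map_multiset_prod, Multiset.map_map]
      refine Multiset.prod_induction IsUnit _ (fun _ _ ha hb => ha.mul hb) isUnit_one fun z hz => ?_
      obtain ⟨r, hr, rfl⟩ := Multiset.mem_map.1 hz
      exact (Scheme.mem_basicOpen _ _ _ _).1 (hcon r (Multiset.mem_toFinset.2 hr))
    rw [hprod, map_zero] at h1
    exact not_isUnit_zero h1
  choose r hr hry using hnil
  have hlc : IsLocallyConstant r := (IsLocallyConstant.iff_exists_open r).2 fun w =>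
    ⟨⋂ s ∈ P.roots.toFinset.erase (r w), (Y.basicOpen (b - glob f s) : Set Y),
      isOpen_biInter_finset fun s _ => (Y.basicOpen _).isOpen, Set.mem_iInter₂.2 fun s hs => by
        by_contra hcon
        exact (Finset.mem_erase.1 hs).1 (eq_of_notMem f hcon (hry w)),
      fun v hv => by
        by_contra hne
        exact hry v (Set.mem_iInter₂.1 hv (r v) (Finset.mem_erase.2 ⟨hne, hr v⟩))⟩
  obtain ⟨y₀⟩ : Nonempty Y := inferInstance
  refine ⟨r y₀, sub_eq_zero.1 ((basicOpen_eq_bot_iff _).1 (eq_bot_iff.2 fun y hy => ?_))⟩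
  exact hry y (hlc.apply_eq_of_preconnectedSpace y y₀ ▸ hy)

variable (ν : W ⟶ Y)

/-- Units can be detected upstairs. -/
theorem isUnit_of_app [Surjective ν] {V : Y.Opens} {r : Γ(Y, V)} (h : IsUnit (ν.app V r)) : IsUnit r := by
  have hV : Y.basicOpen r = V := by
    refine le_antisymm (Y.basicOpen_le r) fun y hy => ?_
    obtain ⟨w, rfl⟩ := ν.surjective y
    have hw : w ∈ ν ⁻¹ᵁ Y.basicOpen r := by
      rw [Scheme.preimage_basicOpen, W.basicOpen_of_isUnit h]
      exact hy
    exact hw
  have h0 := RingedSpace.isUnit_res_basicOpen Y.toRingedSpace r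
  have h1 : IsUnit (resX Y hV.ge (resX Y (Y.basicOpen_le r) r)) := IsUnit.map _ h0
  rwa [Groth.PicAux.resX_resX, Groth.PicAux.resX_self] at h1

/-- Functions on a reduced scheme inject upstairs. -/
theorem app_injective [Surjective ν] [IsReduced Y] (V : Y.Opens) : Function.Injective (ν.app V) := by
  refine (injective_iff_map_eq_zero _).2 fun r hr => (basicOpen_eq_bot_iff _).1 (eq_bot_iff.2 fun y hy => ?_)
  obtain ⟨w, rfl⟩ := ν.surjective y
  have hw : w ∈ ν ⁻¹ᵁ Y.basicOpen r := hy
  rw [Scheme.preimage_basicOpen, hr, Scheme.basicOpen_zero] at hw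
  exact hw.elim

/-- Fibres away from the bad set are single points. -/
theorem subsingleton_fibre [IsAffineHom ν] {S : Set Y} (hS : IsClosed S)
    (hb : ∀ V : Y.Opens, (∀ x ∈ V, x ∉ S) → Function.Bijective (ν.app V)) {w w' : W}
    (h : ν w = ν w') (hw : ν w ∉ S) : w = w' := by
  obtain ⟨V, hV, hwV, hVS⟩ := exists_isAffineOpen_mem_and_subset (U := ⟨Sᶜ, hS.isOpen_compl⟩)
    (x := ν w) hw
  haveI : IsAffine V := hV
  haveI : IsAffine (ν ⁻¹ᵁ V) := hV.preimage ν
  haveI : IsIso (ν.app V) := (ConcreteCategory.isIso_iff_bijective _).2 (hb V fun x hx => hVS hx)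
  haveI : IsIso (ν.app (V.ι ''ᵁ ⊤)) := by
    rw [Scheme.Opens.ι_image_top]
    infer_instance
  haveI : IsIso (ν ∣_ V).appTop := by
    rw [morphismRestrict_appTop]
    infer_instance
  haveI : IsIso (ν ∣_ V) :=
    (HasAffineProperty.iff_of_isAffine (P := MorphismProperty.isomorphisms Scheme)).2 ⟨inferInstance, inferInstance⟩
  have e : (⟨w, hwV⟩ : (ν ⁻¹ᵁ V : W.Opens)) = ⟨w', show ν w' ∈ V from h ▸ hwV⟩ := by
    refine (ν ∣_ V).isOpenEmbedding.injective (Subtype.ext ?_)
    rw [morphismRestrict_base_coe, morphismRestrict_base_coe]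
    exact h
  exact congrArg Subtype.val e

end Groth.ModelsGraphs.PicCount
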