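import Groth.Agent.ModelsGraphs.PicCount.Local
import Groth.Agent.ModelsGraphs.PicCount.Const

/-!
# Classes trivial upstairs along a finite map which is an isomorphism off finitely many points
-/

set_option autoImplicit false
set_option linter.style.haveILetI false
set_option backward.isDefEq.respectTransparency false
set_option backward.defeqAttrib.useBackward true
set_option backward.isDefEq.respectTransparency.types false

universe u

open CategoryTheory CategoryTheory.Limits AlgebraicGeometry Opposite TopologicalSpace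
open Groth.PicAux
open Groth.Abvar.PicCalc (pull cls)
open scoped Groth.Abvar.PicCalc

namespace Groth.ModelsGraphs.PicCount

set_option maxHeartbeats 1600000

variable {k : Type u} [Field k] [IsAlgClosed k] {W Y : Scheme.{u}}

theorem resX_app (ν : W ⟶ Y) {V V' : Y.Opens} (h : V' ≤ V) (r : Γ(Y, V)) :
    ν.app V' (resX Y h r) = resX W (ν.preimage_mono h) (ν.app V r) :=
  ConcreteCategory.congr_hom (ν.naturality (homOfLE h).op) r

theorem evPt_resX (g : W ⟶ Spec (CommRingCat.of k)) [LocallyOfFiniteType g] {w : W}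
    (hw : IsClosed ({w} : Set W)) {U V : W.Opens} (hle : V ≤ U) (hwV : w ∈ V) (r : Γ(W, U)) :
    evPt g hw V hwV (resX W hle r) = evPt g hw U (hle hwV) r :=
  evPt_res g hw hle hwV r

variable (ν : W ⟶ Y) (f : Y ⟶ Spec (CommRingCat.of k)) [LocallyOfFiniteType f]
  (g : W ⟶ Spec (CommRingCat.of k)) [LocallyOfFiniteType g] (S : Set Y) (n : ℕ)

/-- A class with a trivialisation upstairs whose power descends. -/
structure Data (ζ : W → kˣ) (L : Y.Modules) where
  O : Y → Y.Opens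
  mem : ∀ y, y ∈ O y
  s : ∀ y, Γ(L, O y)
  gen : ∀ y, Gen L (O y) (s y)
  b : ∀ y, Γ(W, ν ⁻¹ᵁ O y)
  r : ∀ y, Γ(Y, O y)
  app_r : ∀ y, ν.app (O y) (r y) = b y ^ n
  unit : ∀ y, IsUnit (b y)
  compat : ∀ (x y : Y) (V : Y.Opens) (hx : V ≤ O x) (hy : V ≤ O y) (η : Γ(Y, V)),
    res L hx (s x) = η • res L hy (s y) →
      resX W (ν.preimage_mono hx) (b x) = ν.app V η * resX W (ν.preimage_mono hy) (b y)
  values : ∀ x ∈ S, ∀ (w : W) (hw : IsClosed ({w} : Set W)) (hwO : w ∈ ν ⁻¹ᵁ O x), ν w = x →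
    evPt g hw (ν ⁻¹ᵁ O x) hwO (b x) = (ζ w : k)

/-- The class has invariant `ζ`. -/
def Rel (ζ : W → kˣ) (c : PicLoc.PicSet Y) : Prop :=
  ∃ (L : Y.Modules) (hL : PicF.IsInvertible L), cls hL = c ∧ Nonempty (Data ν g S n ζ L)

variable {S n}

variable {ν g} in
theorem rel_mul {ζ ζ' : W → kˣ} {c c' : PicLoc.PicSet Y} (h : Rel ν g S n ζ c) (h' : Rel ν g S n ζ' c') :
    Rel ν g S n (ζ * ζ') (c * c') := by
  obtain ⟨L, hL, rfl, ⟨D⟩⟩ := h
  obtain ⟨L', hL', rfl, ⟨D'⟩⟩ := h'
  refine ⟨CohB1.tensorMod L L', Groth.Abvar.PicCalc.isInvertible_tensorMod hL hL',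
    Groth.Abvar.PicCalc.cls_tensorMod hL hL', ⟨?_⟩⟩
  exact
    { O := fun y => D.O y ⊓ D'.O y
      mem := fun y => ⟨D.mem y, D'.mem y⟩
      s := fun y => tmulSec (res L inf_le_left (D.s y)) (res L' inf_le_right (D'.s y))
      gen := fun y => ((D.gen y).res inf_le_left).tensor ((D'.gen y).res inf_le_right)
      b := fun y => resX W (ν.preimage_mono inf_le_left) (D.b y) *
        resX W (ν.preimage_mono inf_le_right) (D'.b y)
      r := fun y => resX Y inf_le_left (D.r y) * resX Y inf_le_right (D'.r y)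
      app_r := fun y => by
        rw [map_mul, resX_app, resX_app, D.app_r, D'.app_r, mul_pow, map_pow, map_pow]
      unit := fun y => ((D.unit y).map _).mul ((D'.unit y).map _)
      compat := fun x y V hx hy η hη => by
        obtain ⟨η₁, h₁⟩ := (D.gen y).exists_coeff (hy.trans inf_le_left) (res L (hx.trans inf_le_left) (D.s x))
        obtain ⟨η₂, h₂⟩ := (D'.gen y).exists_coeff (hy.trans inf_le_right) (res L' (hx.trans inf_le_right) (D'.s x))
        have e1 := D.compat x y V _ _ η₁ h₁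
        have e2 := D'.compat x y V _ _ η₂ h₂
        simp only [res_tmulSec, res_res] at hη
        rw [h₁, h₂, tmulSec_smul_left, tmulSec_smul_right, smul_smul] at hη
        have he : η₁ * η₂ = η := by
          refine (((D.gen y).res inf_le_left).tensor ((D'.gen y).res inf_le_right)).smul_inj hy ?_
          simpa only [res_tmulSec, res_res] using hη
        subst he
        simp only [map_mul, resX_resX]
        rw [e1, e2]
        ring
      values := fun x hx w hw hwO hwx => by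
        rw [map_mul, evPt_resX g hw _ hwO, evPt_resX g hw _ hwO, D.values x hx w hw _ hwx,
          D'.values x hx w hw _ hwx]
        rfl }

variable [IsFinite ν] [Surjective ν] [IsReduced Y]

variable {ν g} in
theorem Data.isUnit_r {ζ : W → kˣ} {L : Y.Modules} (D : Data ν g S n ζ L) (y : Y) : IsUnit (D.r y) :=
  isUnit_of_app ν (by rw [D.app_r]; exact (D.unit y).pow n)

variable {ν g} in
theorem pow_eq_one {ζ : W → kˣ} {c : PicLoc.PicSet Y} (h : Rel ν g S n ζ c) : c ^ n = 1 := by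
  obtain ⟨L, hL, rfl, ⟨D⟩⟩ := h
  rw [← Groth.Abvar.PicCalc.cls_tensorPow hL n,
    ← Groth.Abvar.PicCalc.nonempty_iso_structure_iff (Groth.Abvar.PicCalc.isInvertible_tensorPow hL n)]
  obtain ⟨φ, -⟩ := exists_iso_of_gen (U := D.O) (eq_top_iff.2 fun y _ => Opens.mem_iSup.2 ⟨y, D.mem y⟩)
    (fun y => powSec (D.s y) n) (fun y => (D.gen y).pow n) (M := Coh.structureModule Y)
    (fun y => D.r y • oneSec Y (D.O y)) (fun y => (gen_oneSec _).smul_unit (D.isUnit_r y)) fun x y r' hr => by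
      obtain ⟨η, hη⟩ := (D.gen y).exists_coeff inf_le_right (res L (inf_le_left : D.O x ⊓ D.O y ≤ D.O x) (D.s x))
      have hr' : η ^ n = r' := by
        refine ((D.gen y).pow n).smul_inj inf_le_right ?_
        rw [← hr, res_powSec, res_powSec, hη, powSec_smul]
      subst hr'
      have e := D.compat x y _ _ _ η hη
      simp only [res_smul, res_oneSec, smul_smul]
      refine congrArg (fun z => z • oneSec Y (D.O x ⊓ D.O y)) (app_injective ν _ ?_)
      rw [map_mul, map_pow, resX_app, resX_app, D.app_r, D.app_r, map_pow, map_pow, e, mul_pow]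
  exact ⟨φ⟩

omit [IsFinite ν] [Surjective ν] [IsReduced Y] in
variable {ν g} in
theorem pull_eq_one {ζ : W → kˣ} {c : PicLoc.PicSet Y} (h : Rel ν g S n ζ c) : pull ν c = 1 := by
  obtain ⟨L, hL, rfl, ⟨D⟩⟩ := h
  rw [Groth.Abvar.PicCalc.pull_cls, ← Groth.Abvar.PicCalc.nonempty_iso_structure_iff]
  have hcov : iSup (fun y => ν ⁻¹ᵁ D.O y) = ⊤ :=
    eq_top_iff.2 fun w _ => Opens.mem_iSup.2 ⟨ν w, D.mem (ν w)⟩
  obtain ⟨φ, -⟩ := exists_iso_of_gen hcov (fun y => pullSec ν L (D.s y)) (fun y => (D.gen y).pull ν)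
    (M := Coh.structureModule W) (fun y => D.b y • oneSec W (ν ⁻¹ᵁ D.O y))
    (fun y => (gen_oneSec _).smul_unit (D.unit y)) fun x y r' hr => by
      obtain ⟨η, hη⟩ := (D.gen y).exists_coeff inf_le_right (res L (inf_le_left : D.O x ⊓ D.O y ≤ D.O x) (D.s x))
      have hr' : ν.app (D.O x ⊓ D.O y) η = r' := by
        refine ((D.gen y).pull ν).smul_inj (ν.preimage_mono inf_le_right) ?_
        refine Eq.trans ?_ hr
        exact ((res_pullSec ν L (inf_le_left : D.O x ⊓ D.O y ≤ D.O x) (D.s x)).trans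
          ((congrArg (pullSec ν L) hη).trans ((pullSec_smul ν L _ _).trans
            (congrArg _ (res_pullSec ν L (inf_le_right : D.O x ⊓ D.O y ≤ D.O y) (D.s y)).symm)))).symm
      subst hr'
      have e := D.compat x y _ _ _ η hη
      simp only [res_smul, res_oneSec, smul_smul]
      exact congrArg (fun z : Γ(W, ν ⁻¹ᵁ D.O x ⊓ ν ⁻¹ᵁ D.O y) => z • oneSec W (ν ⁻¹ᵁ D.O x ⊓ ν ⁻¹ᵁ D.O y)) e
  exact ⟨φ⟩

variable (hν : ν ≫ f = g) (hS : S.Finite) (hSc : ∀ s ∈ S, IsClosed ({s} : Set Y))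
  (hb : ∀ V : Y.Opens, (∀ x ∈ V, x ∉ S) → Function.Bijective (ν.app V))

omit [IsAlgClosed k] in
include hS hSc in
theorem exists_chart_of_finite (U : Y.Opens) (x : Y) (hx : x ∈ U) :
    ∃ V : Y.Opens, IsAffineOpen V ∧ x ∈ V ∧ V ≤ U ∧ ∀ y ∈ V, y ∈ S → y = x := by
  have hcl : IsClosed (S \ {x}) := by
    rw [show S \ {x} = ⋃ y ∈ S \ {x}, {y} from (Set.biUnion_of_singleton _).symm]
    exact (hS.subset Set.sdiff_subset).isClosed_biUnion fun y hy => hSc y hy.1
  obtain ⟨V, hV, hxV, hVle⟩ := exists_isAffineOpen_mem_and_subset (U := U ⊓ ⟨_, hcl.isOpen_compl⟩)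
    (x := x) ⟨hx, fun h => h.2 rfl⟩
  refine ⟨V, hV, hxV, fun y hy => (hVle hy).1, fun y hy hyS => ?_⟩
  by_contra hne
  exact (hVle hy).2 ⟨hyS, hne⟩

include f hν hS hSc hb in
variable {ν g} in
/-- Trivial invariant gives the trivial class. -/
theorem eq_one_of_rel (hn : (n : k) ≠ 0) {ζ : W → kˣ} (hζ : ∀ w, ν w ∈ S → ζ w = 1)
    {c : PicLoc.PicSet Y} (h : Rel ν g S n ζ c) : c = 1 := by
  obtain ⟨L, hL, rfl, ⟨D⟩⟩ := h
  have ex : ∀ y : Y, ∃ (V : Y.Opens) (hle : V ≤ D.O y) (t : Γ(Y, V)),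
      y ∈ V ∧ ν.app V t = resX W (ν.preimage_mono hle) (D.b y) := by
    intro y
    obtain ⟨V, hV, hyV, hle, hVS⟩ := exists_chart_of_finite hS hSc (D.O y) y (D.mem y)
    refine ⟨V, hle, ?_⟩
    by_cases hy : y ∈ S
    · obtain ⟨C⟩ := exists_conductor ν f g hν S hb hV hyV (hSc y hy) hVS
      obtain ⟨t, ht⟩ := exists_rigid ν f g hν C hn (resX W (ν.preimage_mono hle) (D.b y)) (resX Y hle (D.r y))
        (by rw [resX_app, D.app_r, map_pow]) 1 one_ne_zero fun w hw hwV hwy => by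
          rw [evPt_resX g hw _ hwV, D.values y hy w hw _ hwy, hζ w (hwy ▸ hy), Units.val_one]
      exact ⟨t, hyV, ht⟩
    · obtain ⟨t, ht⟩ := (hb V fun z hz hzS => hy (hVS z hz hzS ▸ hzS)).2 (resX W (ν.preimage_mono hle) (D.b y))
      exact ⟨t, hyV, ht⟩
  choose V hle t hyV ht using ex
  rw [← Groth.Abvar.PicCalc.nonempty_iso_structure_iff hL]
  obtain ⟨φ, -⟩ := exists_iso_of_gen (U := V) (eq_top_iff.2 fun y _ => Opens.mem_iSup.2 ⟨y, hyV y⟩)
    (fun y => res L (hle y) (D.s y)) (fun y => (D.gen y).res _) (M := Coh.structureModule Y)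
    (fun y => t y • oneSec Y (V y))
    (fun y => (gen_oneSec _).smul_unit (isUnit_of_app ν (by rw [ht]; exact (D.unit y).map _))) fun x y η hη => by
      simp only [res_res] at hη
      have e := D.compat x y _ _ _ η hη
      simp only [res_smul, res_oneSec, smul_smul]
      refine congrArg (fun z => z • oneSec Y (V x ⊓ V y)) (app_injective ν _ ?_)
      rw [map_mul, resX_app, resX_app, ht, ht, resX_resX, resX_resX, e]
  exact ⟨φ⟩

include f hν hS hSc hb in
/-- Every invariant is attained. -/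
theorem exists_rel (hn : (n : k) ≠ 0) (ζ : W → kˣ) (hζ : ∀ w, ν w ∈ S → ζ w ^ n = 1) :
    ∃ c, Rel ν g S n ζ c := by
  have hn0 : n ≠ 0 := fun h => hn (by rw [h, Nat.cast_zero])
  have ex : ∀ y : Y, ∃ (O : Y.Opens) (b : Γ(W, ν ⁻¹ᵁ O)) (r : Γ(Y, O)), y ∈ O ∧
      (∀ z ∈ O, z ∈ S → z = y) ∧ ν.app O r = b ^ n ∧ IsUnit b ∧
      (y ∈ S → ∀ (w : W) (hw : IsClosed ({w} : Set W)) (hwO : w ∈ ν ⁻¹ᵁ O), ν w = y →
        evPt g hw _ hwO b = (ζ w : k)) := by
    intro y
    obtain ⟨V, hV, hyV, -, hVS⟩ := exists_chart_of_finite hS hSc ⊤ y trivial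
    by_cases hy : y ∈ S
    swap
    · exact ⟨V, 1, 1, hyV, hVS, by rw [map_one, one_pow], isUnit_one, fun h => absurd h hy⟩
    have hyc := hSc y hy
    obtain ⟨C⟩ := exists_conductor ν f g hν S hb hV hyV hyc hVS
    obtain ⟨b, a, hab, hbv⟩ := exists_values ν f g hν C hV hn (fun w => (ζ w : k)) fun w hw => by
      rw [← Units.val_pow_eq_pow_val, hζ w (hw ▸ hy), Units.val_one]
    obtain ⟨w, hwy⟩ := ν.surjective y
    have hfib : ∀ w : W, ν w = y → IsClosed ({w} : Set W) := fun w hw => by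
      have hf : IsClosed (ν.base ⁻¹' {y}) := hyc.preimage ν.continuous
      haveI : DiscreteTopology ↥(ν.base ⁻¹' {y}) :=
        isDiscrete_iff_discreteTopology.1 (ν.isDiscrete_preimage_singleton y)
      have h1 : IsClosed ({⟨w, hw⟩} : Set ↥(ν.base ⁻¹' {y})) := isClosed_discrete _
      simpa using hf.isClosedEmbedding_subtypeVal.isClosedMap _ h1
    have hwV : w ∈ ν ⁻¹ᵁ V := show ν w ∈ V from hwy.symm ▸ hyV
    have hyO : y ∈ Y.basicOpen a := by
      rw [← evPt_ne_zero_iff f hyc hyV, ← evPt_app_of_eq ν f g hν (hfib w hwy) hwy hyc hwV hyV a, hab,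
        map_pow, hbv w (hfib w hwy) hwV hwy]
      exact pow_ne_zero _ (ζ w).ne_zero
    refine ⟨Y.basicOpen a, resX W (ν.preimage_mono (Y.basicOpen_le a)) b, resX Y (Y.basicOpen_le a) a, hyO,
      fun z hz => hVS z (Y.basicOpen_le a hz), by rw [resX_app, hab, map_pow], ?_, fun _ v hv hvO hvy => ?_⟩
    · refine (isUnit_pow_iff hn0).1 ?_
      rw [← map_pow, ← hab, ← resX_app]
      exact (RingedSpace.isUnit_res_basicOpen Y.toRingedSpace a).map _
    · rw [evPt_resX g hv _ hvO]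
      exact hbv v hv _ hvy
  choose O b r hyO hOS hbr hbu hbv using ex
  have hO : iSup O = ⊤ := eq_top_iff.2 fun y _ => Opens.mem_iSup.2 ⟨y, hyO y⟩
  have ex2 : ∀ x y, ∃ η : Γ(Y, O x ⊓ O y), IsUnit η ∧
      resX W (ν.preimage_mono inf_le_left) (b x) =
        ν.app (O x ⊓ O y) η * resX W (ν.preimage_mono inf_le_right) (b y) := by
    intro x y
    by_cases hxy : x = y
    · subst hxy
      exact ⟨1, isUnit_one, by rw [map_one, one_mul]⟩
    have hu : IsUnit (resX W (ν.preimage_mono (inf_le_right : O x ⊓ O y ≤ O y)) (b y)) := (hbu y).map _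
    obtain ⟨η, hη⟩ := (hb (O x ⊓ O y) fun z hz hzS => hxy ((hOS x z hz.1 hzS).symm.trans (hOS y z hz.2 hzS))).2
      (resX W (ν.preimage_mono inf_le_left) (b x) * hu.unit⁻¹.1)
    refine ⟨η, isUnit_of_app ν ?_, ?_⟩
    · rw [hη]; exact ((hbu x).map _).mul (Units.isUnit _)
    · rw [hη, mul_assoc, hu.val_inv_mul, mul_one]
  choose η hηu hη using ex2
  obtain ⟨L, s, hs, hL, hrel⟩ := exists_module_of_cocycle O η hO hηu fun x y z => by
    refine app_injective ν _ ?_
    refine ((hbu z).map (resX W (ν.preimage_mono (inf_le_right : O x ⊓ O y ⊓ O z ≤ O z)))).mul_left_injective ?_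
    simp only [map_mul, resX_app]
    have h1 := congrArg (resX W (ν.preimage_mono
      (inf_le_inf_right (O z) inf_le_left : O x ⊓ O y ⊓ O z ≤ O x ⊓ O z))) (hη x z)
    have h2 := congrArg (resX W (ν.preimage_mono
      (inf_le_left : O x ⊓ O y ⊓ O z ≤ O x ⊓ O y))) (hη x y)
    have h3 := congrArg (resX W (ν.preimage_mono
      (inf_le_inf_right (O z) inf_le_right : O x ⊓ O y ⊓ O z ≤ O y ⊓ O z))) (hη y z)
    simp only [map_mul, resX_resX] at h1 h2 h3
    rw [mul_assoc, ← h3, ← h2, ← h1]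
  refine ⟨_, L, hL, rfl, ⟨⟨O, hyO, s, hs, b, r, hbr, hbu, fun x y V hx hy η' hη' => ?_, fun x hx => hbv x hx⟩⟩⟩
  have he : resX Y (le_inf hx hy) (η x y) = η' := by
    refine (hs y).smul_inj hy ?_
    rw [← hη']
    have := congrArg (res L (le_inf hx hy)) (hrel x y)
    simp only [res_smul, res_res] at this
    exact this.symm
  subst he
  have := congrArg (resX W (ν.preimage_mono (le_inf hx hy))) (hη x y)
  simp only [map_mul, resX_resX] at this
  rw [this, resX_app]

end Groth.ModelsGraphs.PicCount
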