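import Groth.Agent.ModelsGraphs.PicCount.Branch
import Groth.Agent.ModelsGraphs.PicCount.Chart
import Groth.Agent.ModelsGraphs.PicCount.Const
import Groth.Agent.ModelsGraphs.PicCount.Glue
import Groth.Prelude.Def_Pi1

/-!
# Branches are points of the normalization
-/

set_option autoImplicit false
set_option linter.style.haveILetI false
set_option backward.isDefEq.respectTransparency false
set_option backward.defeqAttrib.useBackward true
set_option backward.isDefEq.respectTransparency.types false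

universe u

open CategoryTheory AlgebraicGeometry Opposite TopologicalSpace

namespace Groth.ModelsGraphs.PicCount

set_option maxHeartbeats 1600000

theorem mem_nonZeroDivisors_of_minimalPrimes {B : Type*} [CommRing B] [_root_.IsReduced B] {s : B}
    (h : ∀ P ∈ minimalPrimes B, s ∉ P) : s ∈ nonZeroDivisors B := by
  refine mem_nonZeroDivisors_iff_right.2 fun c hc => ?_
  have hmem : c ∈ sInf ((⊥ : Ideal B).minimalPrimes) := by
    refine Ideal.mem_sInf.2 fun {P} hP => ?_
    have := hP.1.1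
    exact (this.mem_or_mem (hc ▸ P.zero_mem : c * s ∈ P)).resolve_right (h P hP)
  rw [Ideal.sInf_minimalPrimes] at hmem
  exact IsNilpotent.eq_zero hmem

variable {k : Type u} [Field k] [IsAlgClosed k] {W Y X : Scheme.{u}} (t : Y ⟶ X) [IsClosedImmersion t]
  [Surjective t] (ν : W ⟶ Y) [IsFinite ν] [Surjective ν] [IsReduced Y] (hW : Pi1.IsNormalScheme W)
  (f : X ⟶ Spec (CommRingCat.of k)) [LocallyOfFiniteType f]
  {S : Set Y} (hS : S.Finite) (hSc : ∀ s ∈ S, IsClosed ({s} : Set Y))
  (hb : ∀ V : Y.Opens, (∀ x ∈ V, x ∉ S) → Function.Bijective (ν.app V))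
  (hgen : ∀ w : W, (∀ z, z ⤳ w → z = w) → ¬ IsClosed ({ν w} : Set Y))

include hW hS hSc hb hgen f in
/-- The branches at a closed point are the points over it on the normalization. -/
theorem numBranchesAt_eq_card {y : Y} (hy : IsClosed ({y} : Set Y)) :
    Brnch.numBranchesAt X (t y) = ENat.card {w : W // ν w = y} := by
  classical
  haveI : IsLocallyNoetherian X := LocallyOfFiniteType.isLocallyNoetherian f
  haveI : LocallyOfFiniteType (t ≫ f) := inferInstance
  haveI : LocallyOfFiniteType (ν ≫ t ≫ f) := inferInstance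
  haveI : IsLocallyNoetherian W := LocallyOfFiniteType.isLocallyNoetherian (ν ≫ t ≫ f)
  have hcl : IsClosed (t.base '' (S \ {y})) := t.isClosedMap _ (by
    rw [show S \ {y} = ⋃ z ∈ S \ {y}, {z} from (Set.biUnion_of_singleton _).symm]
    exact (hS.subset Set.sdiff_subset).isClosed_biUnion fun z hz => hSc z hz.1)
  obtain ⟨V', hV', hyV', hle⟩ := exists_isAffineOpen_mem_and_subset (U := ⟨_, hcl.isOpen_compl⟩) (x := t y)
    (fun ⟨z, hz, he⟩ => hz.2 (t.isClosedEmbedding.injective he))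
  let V : Y.Opens := t ⁻¹ᵁ V'
  have hV : IsAffineOpen V := hV'.preimage t
  have hU : IsAffineOpen (ν ⁻¹ᵁ V) := hV.preimage ν
  have hyV : y ∈ V := hyV'
  have hVS : ∀ z ∈ V, z ∈ S → z = y := fun z hz hzS => by
    by_contra hne
    exact hle hz ⟨z, ⟨hzS, hne⟩, rfl⟩
  let A₀ := Γ(X, V')
  let B := Γ(W, ν ⁻¹ᵁ V)
  let πa : A₀ →+* B := (ν.app V).hom.comp (t.app V').hom
  have hπa : ∀ a, πa a = (ν ≫ t).app V' a := fun a => rfl
  letI : Algebra A₀ B := πa.toAlgebra
  haveI : Module.Finite A₀ B := IsFinite.finite_app (f := ν ≫ t) V' hV'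
  haveI : Algebra.IsIntegral A₀ B := inferInstance
  haveI : IsNoetherianRing B := IsLocallyNoetherian.component_noetherian ⟨_, hU⟩
  haveI : IsNoetherianRing A₀ := IsLocallyNoetherian.component_noetherian ⟨_, hV'⟩
  let pp := hV'.primeIdealOf ⟨t y, hyV'⟩
  let p := pp.asIdeal
  letI := X.presheaf.algebra_section_stalk ⟨t y, hyV'⟩
  haveI hloc : IsLocalization.AtPrime (X.presheaf.stalk (t y)) p := hV'.isLocalization_stalk ⟨t y, hyV'⟩
  haveI : IsNoetherianRing (X.presheaf.stalk (t y)) :=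
    IsLocalization.isNoetherianRing p.primeCompl _ inferInstance
  have hmemp : ∀ a : A₀, t y ∈ X.basicOpen a ↔ a ∉ p := fun a =>
    Groth.VarietyBC.AffineUnion.mem_basicOpen_iff hV' (t y) hyV' a
  have hpt : ∀ (w : W) (hw : w ∈ ν ⁻¹ᵁ V),
      (hU.primeIdealOf ⟨w, hw⟩).asIdeal.comap (algebraMap A₀ B) = (hV'.primeIdealOf ⟨t (ν w), hw⟩).asIdeal := by
    intro w hw
    ext a
    rw [Ideal.mem_comap, ← not_iff_not, ← Groth.VarietyBC.AffineUnion.mem_basicOpen_iff hU w hw,
      ← Groth.VarietyBC.AffineUnion.mem_basicOpen_iff hV' (t (ν w)) hw]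
    show w ∈ W.basicOpen ((ν ≫ t).app V' a) ↔ _
    exact Iff.of_eq (congrArg (fun O : W.Opens => w ∈ O) ((ν ≫ t).preimage_basicOpen a).symm)
  haveI : AlgebraicGeometry.IsReduced W := by
    haveI : ∀ x : W, _root_.IsReduced (W.presheaf.stalk x) := fun x => by
      haveI := (hW x).1
      infer_instance
    exact isReduced_of_isReduced_stalk W
  let C := Localization (Algebra.algebraMapSubmonoid B p.primeCompl)
  have hle' : p.primeCompl ≤ (Algebra.algebraMapSubmonoid B p.primeCompl).comap (algebraMap A₀ B) :=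
    fun a ha => ⟨a, ha, rfl⟩
  let φ : X.presheaf.stalk (t y) →+* C := IsLocalization.map C (algebraMap A₀ B) hle'
  have hφ : ∀ a : A₀, φ (algebraMap A₀ (X.presheaf.stalk (t y)) a) = algebraMap B C (algebraMap A₀ B a) :=
    fun a => IsLocalization.map_eq hle' a
  have hint : φ.IsIntegral := isIntegral_localization (R := A₀) (S := B) (M := p.primeCompl)
  haveI : _root_.IsReduced B := IsReduced.component_reduced (X := W) (ν ⁻¹ᵁ V)
  haveI : _root_.IsReduced C := inferInstanceAs (_root_.IsReduced (Localization (Algebra.algebraMapSubmonoid B p.primeCompl)))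
  have hker : RingHom.ker φ ≤ nilradical (X.presheaf.stalk (t y)) := by
    intro z hz
    obtain ⟨a, s, rfl⟩ := IsLocalization.exists_mk'_eq p.primeCompl z
    rw [RingHom.mem_ker] at hz
    change IsLocalization.map C (algebraMap A₀ B) hle' _ = 0 at hz
    rw [IsLocalization.map_mk', IsLocalization.mk'_eq_zero_iff] at hz
    obtain ⟨⟨_, u, hu, rfl⟩, hm⟩ := hz
    have hnil : IsNilpotent (u * a) := by
      refine (Scheme.isNilpotent_iff_basicOpen_eq_bot_of_isCompact hV'.isCompact _).2 (eq_bot_iff.2 fun z hz => ?_)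
      obtain ⟨v, rfl⟩ := t.surjective z
      obtain ⟨w, rfl⟩ := ν.surjective v
      have hw : w ∈ (ν ≫ t) ⁻¹ᵁ X.basicOpen (u * a) := hz
      rw [Scheme.preimage_basicOpen, ← hπa,
        show πa (u * a) = 0 from (map_mul πa u a).trans hm, Scheme.basicOpen_zero] at hw
      exact hw.elim
    obtain ⟨N, hN⟩ := hnil
    refine ⟨N, ?_⟩
    rw [Ideal.zero_eq_bot, Ideal.mem_bot, ← IsLocalization.mk'_pow, IsLocalization.mk'_eq_zero_iff]
    exact ⟨⟨u ^ N, pow_mem hu N⟩, by rw [← mul_pow, hN]⟩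
  have hn : ∀ M : MaximalSpectrum C, IsDomain (Localization.AtPrime M.asIdeal) ∧
      IsIntegrallyClosed (Localization.AtPrime M.asIdeal) := by
    intro M
    let q : PrimeSpectrum B := ⟨M.asIdeal.comap (algebraMap B C), inferInstance⟩
    let w : W := hU.fromSpec q
    have hwU : w ∈ ν ⁻¹ᵁ V := by
      have : w ∈ Set.range hU.fromSpec := ⟨q, rfl⟩
      rwa [hU.range_fromSpec] at this
    have hq : hU.primeIdealOf ⟨w, hwU⟩ = q :=
      hU.fromSpec.isEmbedding.injective (hU.fromSpec_primeIdealOf ⟨w, hwU⟩)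
    letI := W.presheaf.algebra_section_stalk ⟨w, hwU⟩
    haveI : IsLocalization.AtPrime (W.presheaf.stalk w) (M.asIdeal.comap (algebraMap B C)) := by
      have := hU.isLocalization_stalk ⟨w, hwU⟩
      rwa [hq] at this
    let e : W.presheaf.stalk w ≃ₐ[B] Localization.AtPrime M.asIdeal :=
      IsLocalization.algEquiv (M.asIdeal.comap (algebraMap B C)).primeCompl _ _
    haveI := (hW w).1
    haveI := (hW w).2
    exact ⟨e.symm.toRingEquiv.toMulEquiv.isDomain, IsIntegrallyClosed.of_equiv e.toRingEquiv⟩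
  obtain ⟨D⟩ := exists_conductor ν (t ≫ f) (ν ≫ t ≫ f) rfl S hb hV hyV hy hVS
  have hminfin : (minimalPrimes B).Finite := minimalPrimes.finite_of_isNoetherianRing B
  obtain ⟨s, hsJ, hsP⟩ := D.exists_nzd hminfin.toFinset (fun P hP => (hminfin.mem_toFinset.1 hP).1.1)
    fun P hP => by
      have hPm := hminfin.mem_toFinset.1 hP
      let q : PrimeSpectrum B := ⟨P, hPm.1.1⟩
      let w : W := hU.fromSpec q
      have hwU : w ∈ ν ⁻¹ᵁ V := by
        have : w ∈ Set.range hU.fromSpec := ⟨q, rfl⟩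
        rwa [hU.range_fromSpec] at this
      have hq : hU.primeIdealOf ⟨w, hwU⟩ = q :=
        hU.fromSpec.isEmbedding.injective (hU.fromSpec_primeIdealOf ⟨w, hwU⟩)
      have hwmax : ∀ z, z ⤳ w → z = w := by
        intro z hz
        have hzU : z ∈ ν ⁻¹ᵁ V := hz.mem_open (ν ⁻¹ᵁ V).isOpen hwU
        have h1 : hU.primeIdealOf ⟨z, hzU⟩ ⤳ q := by
          rw [hU.fromSpec.isEmbedding.isInducing.specializes_iff.symm, hU.fromSpec_primeIdealOf]
          exact hz
        have h2 : (hU.primeIdealOf ⟨z, hzU⟩).asIdeal ≤ P :=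
          (PrimeSpectrum.le_iff_specializes _ _).2 h1
        have h3 : hU.primeIdealOf ⟨z, hzU⟩ = q :=
          PrimeSpectrum.ext (le_antisymm h2 (hPm.2 ⟨(hU.primeIdealOf ⟨z, hzU⟩).isPrime, bot_le⟩ h2))
        exact (hU.fromSpec_primeIdealOf ⟨z, hzU⟩).symm.trans (congrArg _ h3)
      have hne : ν w ≠ y := fun h => hgen w hwmax (h ▸ hy)
      obtain ⟨V₁, -, hwV₁, hV₁⟩ : ∃ V₁ : Y.Opens, True ∧ ν w ∈ V₁ ∧ y ∉ V₁ :=
        ⟨⟨{y}ᶜ, hy.isOpen_compl⟩, trivial, hne, fun h => h rfl⟩
      obtain ⟨a, haV₁, hwa⟩ := hV.exists_basicOpen_le (V := V₁) ⟨ν w, hwV₁⟩ hwU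
      refine ⟨a, ?_, ?_⟩
      · have hw1 : w ∈ ν ⁻¹ᵁ Y.basicOpen a := hwa
        rw [Scheme.preimage_basicOpen, Groth.VarietyBC.AffineUnion.mem_basicOpen_iff hU w hwU, hq] at hw1
        exact hw1
      · by_contra hne0
        exact hV₁ (haV₁ ((evPt_ne_zero_iff (t ≫ f) hy hyV a).1 hne0))
  obtain ⟨s', rfl⟩ := (t.app_surjective V' hV') s
  have hnzd : φ (algebraMap A₀ _ s') ∈ nonZeroDivisors C := by
    rw [hφ]
    have h0 : algebraMap A₀ B s' ∈ nonZeroDivisors B :=
      mem_nonZeroDivisors_of_minimalPrimes fun P hP => hsP P (hminfin.mem_toFinset.2 hP)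
    exact IsLocalization.map_nonZeroDivisors_le (Algebra.algebraMapSubmonoid B p.primeCompl) C ⟨_, h0, rfl⟩
  have hcond : ∀ c, ∃ a, φ a = φ (algebraMap A₀ _ s') * c := by
    intro c
    obtain ⟨b, ⟨_, u, hu, rfl⟩, rfl⟩ := IsLocalization.exists_mk'_eq (Algebra.algebraMapSubmonoid B p.primeCompl) c
    obtain ⟨a, ha⟩ := D.mem_range (ν.app V (t.app V' s') * b) (D.J.mul_mem_right b hsJ)
    obtain ⟨a', rfl⟩ := (t.app_surjective V' hV') a
    refine ⟨IsLocalization.mk' _ a' ⟨u, hu⟩, ?_⟩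
    rw [hφ, IsLocalization.map_mk']
    rw [show algebraMap A₀ B a' = algebraMap A₀ B s' * b from ha, IsLocalization.mul_mk'_eq_mk'_of_mul]
  rw [Brnch.numBranchesAt, numBranches_eq_card (X.presheaf.stalk (t y)) φ hint hker hn _ hnzd hcond]
  refine ENat.card_congr ?_
  have hcomap : ∀ M : MaximalSpectrum C,
      (M.asIdeal.comap (algebraMap B C)).comap (algebraMap A₀ B) = p := by
    intro M
    have h1 : (M.asIdeal.comap φ).IsMaximal := Ideal.isMaximal_comap_of_isIntegral_of_isMaximal' φ hint M.asIdeal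
    have h2 : M.asIdeal.comap φ = IsLocalRing.maximalIdeal _ := IsLocalRing.eq_maximalIdeal h1
    rw [Ideal.comap_comap, show (algebraMap B C).comp (algebraMap A₀ B) =
        φ.comp (algebraMap A₀ (X.presheaf.stalk (t y))) from RingHom.ext fun a => (hφ a).symm,
      ← Ideal.comap_comap, h2]
    exact IsLocalization.AtPrime.comap_maximalIdeal (X.presheaf.stalk (t y)) p
  refine Equiv.ofBijective (fun M => ⟨hU.fromSpec ⟨M.asIdeal.comap (algebraMap B C), inferInstance⟩, ?_⟩) ⟨?_, ?_⟩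
  · let q : PrimeSpectrum B := ⟨M.asIdeal.comap (algebraMap B C), inferInstance⟩
    have hwU : hU.fromSpec q ∈ ν ⁻¹ᵁ V := by
      have : hU.fromSpec q ∈ Set.range hU.fromSpec := ⟨q, rfl⟩
      rwa [hU.range_fromSpec] at this
    have hq : hU.primeIdealOf ⟨_, hwU⟩ = q :=
      hU.fromSpec.isEmbedding.injective (hU.fromSpec_primeIdealOf ⟨_, hwU⟩)
    have h1 := hpt _ hwU
    rw [hq, hcomap M] at h1
    have h2 : hV'.primeIdealOf ⟨t (ν (hU.fromSpec q)), hwU⟩ = pp := PrimeSpectrum.ext h1.symm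
    refine t.isClosedEmbedding.injective ?_
    exact (hV'.fromSpec_primeIdealOf ⟨t (ν (hU.fromSpec q)), hwU⟩).symm.trans
      ((congrArg _ h2).trans (hV'.fromSpec_primeIdealOf ⟨t y, hyV'⟩))
  · intro M M' h
    have h' : hU.fromSpec ⟨M.asIdeal.comap (algebraMap B C), inferInstance⟩ =
        hU.fromSpec ⟨M'.asIdeal.comap (algebraMap B C), inferInstance⟩ := congrArg (fun z : {w : W // ν w = y} => z.1) h
    have h0 := hU.fromSpec.isEmbedding.injective h'
    have h1 : M.asIdeal.comap (algebraMap B C) = M'.asIdeal.comap (algebraMap B C) :=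
      congrArg PrimeSpectrum.asIdeal h0
    refine MaximalSpectrum.ext ?_
    exact (IsLocalization.map_comap (Algebra.algebraMapSubmonoid B p.primeCompl) C M.asIdeal).symm.trans
      ((congrArg (Ideal.map (algebraMap B C)) h1).trans
        (IsLocalization.map_comap (Algebra.algebraMapSubmonoid B p.primeCompl) C M'.asIdeal))
  · rintro ⟨w, rfl⟩
    have hwU : w ∈ ν ⁻¹ᵁ V := hyV
    let q := hU.primeIdealOf ⟨w, hwU⟩
    have hqp : q.asIdeal.comap (algebraMap A₀ B) = p := hpt w hwU
    have hd : Disjoint ((Algebra.algebraMapSubmonoid B p.primeCompl : Submonoid B) : Set B) (q.asIdeal : Set B) := by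
      refine Set.disjoint_left.2 ?_
      rintro _ ⟨u, hu, rfl⟩ h
      exact hu (hqp ▸ h : u ∈ p)
    let P : Ideal C := q.asIdeal.map (algebraMap B C)
    haveI hP : P.IsPrime := IsLocalization.isPrime_of_isPrime_disjoint _ C q.asIdeal q.isPrime hd
    have hPc : P.comap (algebraMap B C) = q.asIdeal :=
      IsLocalization.comap_map_of_isPrime_disjoint _ C q.isPrime hd
    have hPmax : P.IsMaximal := by
      refine Ideal.isMaximal_of_isIntegral_of_isMaximal_comap' φ hint P ?_
      have : P.comap φ = IsLocalRing.maximalIdeal _ := by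
        rw [← IsLocalization.map_comap p.primeCompl (X.presheaf.stalk (t (ν w))) (P.comap φ), Ideal.under_def, Ideal.comap_comap,
          show φ.comp (algebraMap A₀ (X.presheaf.stalk (t (ν w)))) = (algebraMap B C).comp (algebraMap A₀ B) from
            RingHom.ext fun a => hφ a,
          ← Ideal.comap_comap, hPc, hqp, IsLocalization.AtPrime.map_eq_maximalIdeal]
      rw [this]
      infer_instance
    refine ⟨⟨P, hPmax⟩, Subtype.ext ?_⟩
    show hU.fromSpec ⟨P.comap (algebraMap B C), _⟩ = w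
    exact (congrArg _ (PrimeSpectrum.ext hPc : (⟨P.comap (algebraMap B C), inferInstance⟩ : PrimeSpectrum B) = q)).trans
      (hU.fromSpec_primeIdealOf ⟨w, hwU⟩)

end Groth.ModelsGraphs.PicCount
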