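import Groth.Agent.ModelsGraphs.PicCount.Glue
import Groth.Agent.ModelsGraphs.PicDiv.Descend

/-!
# Torsion classes upstairs descend
-/

set_option autoImplicit false
set_option linter.style.haveILetI false
set_option backward.isDefEq.respectTransparency false
set_option backward.defeqAttrib.useBackward true
set_option backward.isDefEq.respectTransparency.types false

universe u

open CategoryTheory CategoryTheory.Limits AlgebraicGeometry Opposite TopologicalSpace
open Groth.PicAux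
open Groth.Abvar.PicCalc (pull cls)
open Groth.VarietyBC.PicGlue (toPieces)
open scoped Groth.Abvar.PicCalc

namespace Groth.ModelsGraphs.PicCount

set_option maxHeartbeats 1600000

variable {k : Type u} [Field k] [IsAlgClosed k] {W Y : Scheme.{u}} (ν : W ⟶ Y) [IsFinite ν] [Surjective ν]
  [IsReduced Y] (f : Y ⟶ Spec (CommRingCat.of k)) [LocallyOfFiniteType f] {S : Set Y} (hS : S.Finite)
  (hSc : ∀ s ∈ S, IsClosed ({s} : Set Y))
  (hb : ∀ V : Y.Opens, (∀ x ∈ V, x ∉ S) → Function.Bijective (ν.app V))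

include f hS hSc hb in
/-- Torsion classes upstairs come from torsion classes downstairs. -/
theorem exists_lift_torsion {n : ℕ} (hn : (n : k) ≠ 0) {d : PicLoc.PicSet W} (hd : d ^ n = 1) :
    ∃ c : PicLoc.PicSet Y, c ^ n = 1 ∧ pull ν c = d := by
  classical
  let ν' : PUnit.{u + 1} → (W ⟶ Y) := fun _ => ν
  haveI : ∀ i, IsFinite (ν' i) := fun _ => ‹IsFinite ν›
  have hb' : ∀ V : Y.Opens, (∀ x ∈ V, x ∉ S) → Function.Bijective (toPieces ν' V) := fun V hV =>
    ⟨fun a b h => (hb V hV).1 (congrFun h PUnit.unit), fun z => by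
      obtain ⟨a, ha⟩ := (hb V hV).2 (z PUnit.unit)
      exact ⟨a, funext fun _ => ha⟩⟩
  have hinj : ∀ V : Y.Opens, Function.Injective (toPieces ν' V) := fun V a b h =>
    app_injective ν V (congrFun h PUnit.unit)
  obtain ⟨N, hN, rfl⟩ := PicGrp.exists_eq_cls d
  obtain ⟨φ⟩ : Nonempty (CohB1.tensorPow N n ≅ Coh.structureModule W) := by
    rw [Groth.Abvar.PicCalc.nonempty_iso_structure_iff (Groth.Abvar.PicCalc.isInvertible_tensorPow hN n),
      Groth.Abvar.PicCalc.cls_tensorPow]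
    exact hd
  have hloc : ∀ x : Y, ∃ (O : Y.Opens) (e : Γ(N, ν ⁻¹ᵁ O)) (r : Γ(Y, O)),
      x ∈ O ∧ (∀ y ∈ O, y ∈ S → y = x) ∧ Gen N (ν ⁻¹ᵁ O) e ∧ IsUnit r ∧
      φ.hom.app (ν ⁻¹ᵁ O) (powSec e n) = ν.app O r • oneSec W (ν ⁻¹ᵁ O) := by
    intro x
    obtain ⟨V, hV, hxV, -, hVS⟩ := exists_chart_of_finite hS hSc ⊤ x trivial
    obtain ⟨O, hO, hxO, hOV, hgen⟩ := Groth.ModelsGraphs.PicDiv.exists_gens ν' (fun _ => N) (fun _ => hN) hV hxV
    obtain ⟨e, he⟩ := hgen PUnit.unit
    obtain ⟨v, hv⟩ := (gen_oneSec (X := W) (ν ⁻¹ᵁ O)).exists_unit ((he.pow n).map φ.hom)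
    obtain ⟨O', hle, r, g, hx', hr, hg, hrg⟩ := Groth.ModelsGraphs.PicDiv.exists_adjust ν' f S hb' hinj n hn
      hO hxO (hSc x) (fun y hy => hVS y (hOV hy)) (fun _ => (v : Γ(W, ν ⁻¹ᵁ O))) fun _ => v.isUnit
    refine ⟨O', g PUnit.unit • res N (ν.preimage_mono hle) e, r, hx', fun y hy => hVS y (hOV (hle hy)),
      (he.res _).smul_unit (hg _), hr, ?_⟩
    have e1 : ν.app O' r = g PUnit.unit ^ n * resX W (ν.preimage_mono hle) (v : Γ(W, ν ⁻¹ᵁ O)) :=
      hrg PUnit.unit
    rw [powSec_smul, Scheme.Modules.Hom.app_smul, ← res_powSec, app_res, hv, res_smul, res_oneSec, smul_smul,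
      e1]
  choose O e r hxO hOS he hr hcomp using hloc
  have hOtop : iSup O = ⊤ := eq_top_iff.2 fun x _ => Opens.mem_iSup.2 ⟨x, hxO x⟩
  have ex : ∀ x y, ∃ η : Γ(Y, O x ⊓ O y), IsUnit η ∧
      res N (ν.preimage_mono inf_le_left) (e x) =
        ν.app (O x ⊓ O y) η • res N (ν.preimage_mono inf_le_right) (e y) := by
    intro x y
    by_cases hxy : x = y
    · subst hxy
      exact ⟨1, isUnit_one, by rw [map_one, one_smul]⟩
    obtain ⟨z, hz⟩ := ((he y).res (ν.preimage_mono (inf_le_right : O x ⊓ O y ≤ O y))).exists_unit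
      ((he x).res (ν.preimage_mono (inf_le_left : O x ⊓ O y ≤ O x)))
    obtain ⟨η, hη⟩ := (hb (O x ⊓ O y) fun z hz hzS => hxy ((hOS x z hz.1 hzS).symm.trans (hOS y z hz.2 hzS))).2
      (z : Γ(W, ν ⁻¹ᵁ (O x ⊓ O y)))
    exact ⟨η, isUnit_of_app ν (hη.symm ▸ z.isUnit), by rw [hη]; exact hz⟩
  choose η hηu hη using ex
  obtain ⟨M, s, hs, hM, hrel⟩ := exists_module_of_cocycle O η hOtop hηu fun x y z => by
    refine app_injective ν _ ((he z).smul_inj (ν.preimage_mono inf_le_right) ?_)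
    simp only [map_mul, resX_app]
    have h1 := congrArg (res N (ν.preimage_mono
      (inf_le_inf_right (O z) inf_le_left : O x ⊓ O y ⊓ O z ≤ O x ⊓ O z))) (hη x z)
    have h2 := congrArg (res N (ν.preimage_mono
      (inf_le_left : O x ⊓ O y ⊓ O z ≤ O x ⊓ O y))) (hη x y)
    have h3 := congrArg (res N (ν.preimage_mono
      (inf_le_inf_right (O z) inf_le_right : O x ⊓ O y ⊓ O z ≤ O y ⊓ O z))) (hη y z)
    simp only [res_smul, res_res] at h1 h2 h3
    rw [mul_smul, ← h3, ← h2, ← h1]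
  refine ⟨PicGrp.cls M hM, ?_, ?_⟩
  · rw [← Groth.Abvar.PicCalc.cls_tensorPow hM n,
      ← Groth.Abvar.PicCalc.nonempty_iso_structure_iff (Groth.Abvar.PicCalc.isInvertible_tensorPow hM n)]
    obtain ⟨ψ, -⟩ := exists_iso_of_gen hOtop (fun x => powSec (s x) n) (fun x => (hs x).pow n)
      (M := Coh.structureModule Y) (fun x => r x • oneSec Y (O x))
      (fun x => (gen_oneSec _).smul_unit (hr x)) fun x y r' hr' => by
        have h' : η x y ^ n = r' := by
          refine ((hs y).pow n).smul_inj inf_le_right ?_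
          rw [← hr', res_powSec, res_powSec, hrel, powSec_smul]
        subst h'
        simp only [res_smul, res_oneSec, smul_smul]
        refine congrArg (fun z => z • oneSec Y (O x ⊓ O y)) (app_injective ν _ ?_)
        refine (gen_oneSec (X := W) (ν ⁻¹ᵁ (O x ⊓ O y))).smul_inj le_rfl ?_
        have h1 := congrArg (res _ (ν.preimage_mono (inf_le_left : O x ⊓ O y ≤ O x))) (hcomp x)
        rw [← app_res, res_powSec, hη x y, powSec_smul, Scheme.Modules.Hom.app_smul, ← res_powSec, app_res,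
          hcomp y, res_smul, res_smul, res_oneSec, res_oneSec, smul_smul] at h1
        rw [res_self, map_mul, map_pow, resX_app, resX_app]
        exact h1.symm
    exact ⟨ψ⟩
  · rw [Groth.Abvar.PicCalc.pull_cls, ← Groth.Abvar.PicCalc.nonempty_iso_iff _ hN]
    have hcov : ⨆ a, ν ⁻¹ᵁ O a = ⊤ := eq_top_iff.2 fun w _ => Opens.mem_iSup.2 ⟨ν w, hxO (ν w)⟩
    obtain ⟨ψ, -⟩ := exists_iso_of_gen hcov (fun x => pullSec ν M (s x)) (fun x => (hs x).pull ν) e he
      fun x y r' hr' => by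
        have h' : ν.app (O x ⊓ O y) (η x y) = r' := by
          refine ((hs y).pull ν).smul_inj (ν.preimage_mono inf_le_right) ?_
          refine Eq.trans ?_ hr'
          exact ((res_pullSec ν M (inf_le_left : O x ⊓ O y ≤ O x) (s x)).trans
            ((congrArg (pullSec ν M) (hrel x y)).trans ((pullSec_smul ν M _ _).trans
              (congrArg _ (res_pullSec ν M (inf_le_right : O x ⊓ O y ≤ O y) (s y)).symm)))).symm
        exact h' ▸ hη x y
    exact ⟨ψ⟩

end Groth.ModelsGraphs.PicCount
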