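import Groth.Agent.ModelsGraphs.PicCount.GlueTors
import Groth.Agent.ModelsGraphs.PicCount.GlueLift

/-!
# Counting torsion classes along a finite map which is an isomorphism off finitely many points
-/

set_option autoImplicit false
set_option linter.style.haveILetI false
set_option backward.isDefEq.respectTransparency false
set_option backward.defeqAttrib.useBackward true
set_option backward.isDefEq.respectTransparency.types false

universe u

open CategoryTheory CategoryTheory.Limits AlgebraicGeometry Opposite TopologicalSpace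
open Groth.Abvar.PicCalc (pull)
open scoped Groth.Abvar.PicCalc

namespace Groth.ModelsGraphs.PicCount

set_option maxHeartbeats 1600000

theorem card_eq_range_mul_ker {G H : Type*} [Group G] [Group H] (f : G →* H) :
    Nat.card G = Nat.card f.range * Nat.card f.ker := by
  rw [Subgroup.card_eq_card_quotient_mul_card_subgroup f.ker,
    Nat.card_congr (QuotientGroup.quotientKerEquivRange f).toEquiv]

variable {k : Type u} [Field k] [IsAlgClosed k] {W Y : Scheme.{u}} {ν : W ⟶ Y} [IsFinite ν] [Surjective ν]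
  [IsReduced Y] [ConnectedSpace Y]
  {f : Y ⟶ Spec (CommRingCat.of k)} [IsProper f]
  {g : W ⟶ Spec (CommRingCat.of k)} [LocallyOfFiniteType g] (hν : ν ≫ f = g)
  {S : Set Y} (hS : S.Finite) (hSc : ∀ s ∈ S, IsClosed ({s} : Set Y))
  (hb : ∀ V : Y.Opens, (∀ x ∈ V, x ∉ S) → Function.Bijective (ν.app V))

include hS hSc in
omit [Surjective ν] [IsReduced Y] [ConnectedSpace Y] in
theorem finite_over : Finite {w : W // ν w ∈ S} := by
  refine Set.Finite.to_subtype (s := {w | ν w ∈ S}) (Set.Finite.subset (hS.biUnion fun s _ => ν.finite_preimage_singleton s) ?_)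
  exact fun w hw => Set.mem_biUnion hw rfl

include hν hS hSc hb in
/-- The torsion of the Picard group downstairs against that upstairs. -/
theorem card_torsion {n : ℕ} (hn : (n : k) ≠ 0) (hroot : ∀ v : (Γ(W, ⊤))ˣ, ∃ ρ, ρ ^ n = v) :
    Nat.card {c : PicLoc.PicSet Y // c ^ n = 1} * Nat.card (LocallyConstant W (rootsOfUnity n k)) *
        n ^ Nat.card S =
      Nat.card {d : PicLoc.PicSet W // d ^ n = 1} * n ^ Nat.card {w : W // ν w ∈ S} * n := by
  classical
  haveI : NeZero n := ⟨fun h => hn (by rw [h, Nat.cast_zero])⟩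
  haveI : NeZero (n : k) := ⟨hn⟩
  haveI : Finite {w : W // ν w ∈ S} := finite_over hS hSc
  haveI : Finite S := hS.to_subtype
  let M := rootsOfUnity n k
  have hM : Nat.card M = n := HasEnoughRootsOfUnity.natCard_rootsOfUnity k n
  let Fn := {w : W // ν w ∈ S} → M
  let ext : Fn →* (W → kˣ) := MonoidHom.mk'
    (fun z w => if hw : ν w ∈ S then (z ⟨w, hw⟩).1 else 1) fun a b => funext fun w => by
      by_cases hw : ν w ∈ S
      · simp only [Pi.mul_apply, dif_pos hw]
        rfl
      · simp only [Pi.mul_apply, dif_neg hw, mul_one]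
  have hext : ∀ (z : Fn) (w : W) (hw : ν w ∈ S), ext z w = (z ⟨w, hw⟩).1 := fun z w hw => dif_pos hw
  have hext' : ∀ (z : Fn) (w : W), ν w ∈ S → ext z w ^ n = 1 := fun z w hw => by
    rw [hext z w hw]; exact (mem_rootsOfUnity n _).1 (z _).2
  have huniq : ∀ (z : W → kˣ) (z' : W → kˣ) c c', (∀ w, ν w ∈ S → z w ^ n = 1) →
      (∀ w, ν w ∈ S → z w = z' w) → Rel ν g S n z c → Rel ν g S n z' c' → c = c' := by
    intro z z' c c' hz hzz h h'
    obtain ⟨d, hd⟩ := exists_rel ν f g hν hS hSc hb hn z⁻¹ fun w hw => by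
      rw [Pi.inv_apply, inv_pow, hz w hw, inv_one]
    have h1 := eq_one_of_rel (f := f) hν hS hSc hb hn (fun w _ => by simp) (rel_mul h hd)
    have h2 := eq_one_of_rel (f := f) hν hS hSc hb hn (fun w hw => by simp [hzz w hw]) (rel_mul h' hd)
    exact mul_right_cancel (h1.trans h2.symm)
  choose θ hθ using fun z : Fn => exists_rel ν f g hν hS hSc hb hn (ext z) (hext' z)
  let Θ : Fn →* PicLoc.PicSet Y := MonoidHom.mk' θ fun a b =>
    huniq (ext (a * b)) (ext a * ext b) _ _ (hext' _) (fun w _ => by rw [map_mul]) (hθ _)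
      (rel_mul (hθ a) (hθ b))
  let Φ : (S → M) × LocallyConstant W M →* Fn := MonoidHom.mk'
    (fun p w => p.1 ⟨ν w.1, w.2⟩ * p.2 w.1) fun a b => funext fun w => by
      simp only [Prod.fst_mul, Prod.snd_mul, Pi.mul_apply, LocallyConstant.coe_mul]
      exact mul_mul_mul_comm _ _ _ _
  have hker : Θ.ker = Φ.range := by
    ext z
    constructor
    · intro hz
      have h1 : Rel ν g S n (ext z) 1 := (MonoidHom.mem_ker.1 hz : θ z = 1) ▸ hθ z
      obtain ⟨lam, μ, h⟩ := exists_eq_of_rel_one hν hS hSc hn (hext' z) h1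
      exact ⟨(fun s => lam s.1, μ), funext fun w => Subtype.ext ((h w.1 w.2).symm.trans (hext z w.1 w.2))⟩
    · rintro ⟨⟨lam, μ⟩, rfl⟩
      let lam' : Y → M := fun y => if hy : y ∈ S then lam ⟨y, hy⟩ else 1
      refine MonoidHom.mem_ker.2 (huniq _ _ _ _ (hext' _) (fun w _ => rfl) (hθ _) ?_)
      refine rel_one_of_eq hν hS hSc (NeZero.ne n) lam' μ fun w hw => ?_
      simp only [hext _ w hw, lam', dif_pos hw]
      rfl
  let TY := (powMonoidHom n : PicLoc.PicSet Y →* PicLoc.PicSet Y).ker
  let TW := (powMonoidHom n : PicLoc.PicSet W →* PicLoc.PicSet W).ker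
  let π : TY →* TW := ((pull ν).comp TY.subtype).codRestrict TW fun c => MonoidHom.mem_ker.2 (by
    show pull ν c.1 ^ n = 1
    rw [← map_pow, show c.1 ^ n = 1 from MonoidHom.mem_ker.1 c.2, map_one])
  have hπs : Function.Surjective π := fun d => by
    obtain ⟨c, hc, hcd⟩ := exists_lift_torsion ν f hS hSc hb hn (MonoidHom.mem_ker.1 d.2 : d.1 ^ n = 1)
    exact ⟨⟨c, MonoidHom.mem_ker.2 hc⟩, Subtype.ext hcd⟩
  let e₁ : π.ker ≃ Θ.range :=
    { toFun := fun c => ⟨c.1.1, by
        obtain ⟨ζ, hζ, hr⟩ := exists_rel_of_pull hν hSc hn hroot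
          (MonoidHom.mem_ker.1 c.1.2 : c.1.1 ^ n = 1) (congrArg Subtype.val (MonoidHom.mem_ker.1 c.2))
        let z : Fn := fun w => ⟨ζ w.1, (mem_rootsOfUnity n _).2 (hζ w.1 w.2)⟩
        exact ⟨z, huniq _ _ _ _ (hext' z) (fun w hw => hext z w hw) (hθ z) hr⟩⟩
      invFun := fun c => ⟨⟨c.1, by
        obtain ⟨z, hz⟩ := c.2
        rw [← hz]
        exact MonoidHom.mem_ker.2 (pow_eq_one (hθ z))⟩, MonoidHom.mem_ker.2 (Subtype.ext (by
          obtain ⟨z, hz⟩ := c.2
          show pull ν c.1 = 1
          rw [← hz]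
          exact pull_eq_one (hθ z)))⟩
      left_inv := fun c => rfl
      right_inv := fun c => rfl }
  let Δ : M →* (S → M) × LocallyConstant W M := MonoidHom.mk'
    (fun z => (fun _ => z⁻¹, LocallyConstant.const W z)) fun a b => by
      refine Prod.ext (funext fun _ => ?_) (LocallyConstant.ext fun _ => rfl)
      exact mul_inv a b
  obtain ⟨y₀⟩ : Nonempty Y := inferInstance
  obtain ⟨w₀, -⟩ := ν.surjective y₀
  have hΔi : Function.Injective Δ := fun a b h => by
    have := congrArg (fun p : (S → M) × LocallyConstant W M => p.2 w₀) h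
    exact this
  have hΔ : Φ.ker = Δ.range := by
    ext ⟨lam, μ⟩
    constructor
    · intro h
      have h' : ∀ w (hw : ν w ∈ S), μ w = (lam ⟨ν w, hw⟩)⁻¹ := fun w hw =>
        (eq_inv_of_mul_eq_one_right (congrFun (MonoidHom.mem_ker.1 h) ⟨w, hw⟩))
      choose σ hσ using ν.surjective
      let φ : Y → M := fun y => if hy : y ∈ S then (lam ⟨y, hy⟩)⁻¹ else μ (σ y)
      have hφ : ∀ w, φ (ν w) = μ w := fun w => by
        by_cases hw : ν w ∈ S
        · simp only [φ, dif_pos hw]; exact (h' w hw).symm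
        · simp only [φ, dif_neg hw]
          rw [subsingleton_fibre ν (by
            rw [← Set.biUnion_of_singleton S]; exact hS.isClosed_biUnion fun y hy => hSc y hy) hb
            (hσ (ν w)) (by rw [hσ]; exact hw)]
      have hq : Topology.IsQuotientMap ν.base :=
        IsClosedMap.isQuotientMap ν.isClosedMap ν.continuous ν.surjective
      have hlc : IsLocallyConstant φ := fun s => by
        rw [← hq.isOpen_preimage, ← Set.preimage_comp]
        convert μ.isLocallyConstant s using 1
        ext w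
        simp only [Set.mem_preimage, Function.comp_apply]
        exact Iff.of_eq (congrArg (· ∈ s) (hφ w))
      have hc : ∀ y, φ y = φ y₀ := fun y => hlc.apply_eq_of_preconnectedSpace y y₀
      refine ⟨φ y₀, Prod.ext (funext fun s => ?_) (LocallyConstant.ext fun w => ?_)⟩
      · show (φ y₀)⁻¹ = lam s
        rw [← hc s.1]
        simp [φ, s.2]
      · show φ y₀ = μ w
        rw [← hc (ν w), hφ]
    · rintro ⟨z, hz⟩
      rw [← hz]
      exact MonoidHom.mem_ker.2 (funext fun w => inv_mul_cancel z)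
  have c1 : Nat.card Fn = Nat.card Θ.range * Nat.card Φ.range := by
    rw [card_eq_range_mul_ker Θ, hker]
  have c2 : Nat.card (S → M) * Nat.card (LocallyConstant W M) = Nat.card Φ.range * n := by
    rw [← Nat.card_prod, card_eq_range_mul_ker Φ, hΔ, ← Nat.card_congr (MonoidHom.ofInjective hΔi).toEquiv, hM]
  have c3 : Nat.card TY = Nat.card TW * Nat.card Θ.range := by
    rw [card_eq_range_mul_ker π, Nat.card_congr e₁, MonoidHom.range_eq_top.2 hπs, Subgroup.card_top]
  rw [Nat.card_fun, hM] at c2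
  rw [show Nat.card Fn = n ^ Nat.card {w : W // ν w ∈ S} by rw [Nat.card_fun, hM]] at c1
  have eY : Nat.card {c : PicLoc.PicSet Y // c ^ n = 1} = Nat.card TY :=
    Nat.card_congr (Equiv.subtypeEquivRight fun c =>
      ⟨fun h => MonoidHom.mem_ker.2 h, fun h => MonoidHom.mem_ker.1 h⟩)
  have eW : Nat.card {c : PicLoc.PicSet W // c ^ n = 1} = Nat.card TW :=
    Nat.card_congr (Equiv.subtypeEquivRight fun c =>
      ⟨fun h => MonoidHom.mem_ker.2 h, fun h => MonoidHom.mem_ker.1 h⟩)
  rw [eY, eW, c3, c1, mul_assoc (Nat.card TW * _), mul_comm (Nat.card (LocallyConstant W _)), c2]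
  ring

end Groth.ModelsGraphs.PicCount
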