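import Groth.Agent.VarietyBC.PicGlue
import Groth.Agent.Abvar.PicCalc
import Groth.Agent.ModelsGraphs.PicDim.GaloisDesc
import Groth.Agent.CohC3.ProperSupport
import Groth.Agent.CohC3.ProperHelpers
import Groth.Agent.Curves1.RR.RankOne
import Groth.Prelude.Def_Curv2

/-!
# Finite decompositions into open pieces
-/

set_option autoImplicit false
set_option linter.style.haveILetI false
set_option backward.isDefEq.respectTransparency false
set_option backward.defeqAttrib.useBackward true
set_option backward.isDefEq.respectTransparency.types false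

universe u

open CategoryTheory CategoryTheory.Limits AlgebraicGeometry Opposite TopologicalSpace
open Groth.PicAux
open Groth.Abvar.PicCalc (pull)
open Groth.VarietyBC.PicGlue (toPieces)
open scoped Groth.Abvar.PicCalc

namespace Groth.ModelsGraphs.PicCount

set_option maxHeartbeats 1600000

variable {W : Scheme.{u}} {ι : Type u} (U : ι → W.Opens) (hU : iSup U = ⊤)
  (hdisj : ∀ i j, i ≠ j → U i ⊓ U j = ⊥)

include hU hdisj in
theorem bijective_toPieces_opens (V : W.Opens) :
    Function.Bijective (toPieces (fun i => (U i).ι) V) := by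
  let T : ι → W.Opens := fun i => (U i).ι ''ᵁ ((U i).ι ⁻¹ᵁ V)
  have hT : ∀ i, T i = U i ⊓ V := fun i => by
    simp only [T]
    rw [Scheme.Hom.image_preimage_eq_opensRange_inf, Scheme.Opens.opensRange_ι]
  have hTV : ∀ i, T i ≤ V := fun i => (hT i).trans_le inf_le_right
  have hc : V ≤ iSup T := fun w hw => by
    obtain ⟨i, hi⟩ := Opens.mem_iSup.1 (hU.ge (Opens.mem_top w) : w ∈ iSup U)
    exact Opens.mem_iSup.2 ⟨i, (hT i).ge ⟨hi, hw⟩⟩
  have happ : ∀ (r : Γ(W, V)) (i : ι), (U i).ι.app V r = resX W (hTV i) r := fun r i => by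
    rw [Scheme.Opens.ι_app]
    rfl
  refine ⟨fun r r' h => resX_ext T hTV hc fun i => ?_, fun x => ?_⟩
  · rw [← happ, ← happ]; exact congrFun h i
  · obtain ⟨r, hr, -⟩ := resX_glue T hTV hc (fun i => (x i : Γ(W, T i))) fun i j => by
      by_cases h : i = j
      · subst h; rfl
      · refine Groth.VarietyBC.PicGlue.subsingleton_functions (U := T i ⊓ T j) (fun w hw => ?_) _ _
        exact (hdisj i j h).le ⟨((hT i).le hw.1).1, ((hT j).le hw.2).1⟩
    exact ⟨r, funext fun i => (happ r i).trans (hr i)⟩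

include hU hdisj in
theorem isClosedImmersion_ι (i : ι) : IsClosedImmersion (U i).ι := by
  refine IsClosedImmersion.of_isPreimmersion _ ?_
  rw [Scheme.Opens.range_ι]
  refine ⟨?_⟩
  have : ((U i : Set W))ᶜ = ⋃ j ∈ {j | j ≠ i}, (U j : Set W) := by
    ext w
    simp only [Set.mem_compl_iff, Set.mem_iUnion, SetLike.mem_coe, Set.mem_setOf_eq]
    constructor
    · intro hw
      obtain ⟨j, hj⟩ := Opens.mem_iSup.1 (hU.ge (Opens.mem_top w) : w ∈ iSup U)
      exact ⟨j, fun h => hw (h ▸ hj), hj⟩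
    · rintro ⟨j, hji, hj⟩ hw
      exact (hdisj j i hji).le ⟨hj, hw⟩
  rw [this]
  exact isOpen_biUnion fun j _ => (U j).isOpen

include hU hdisj in
/-- Classes on a disjoint union are families of classes on the pieces. -/
theorem pull_opens_bijective :
    Function.Bijective (fun c : PicLoc.PicSet W => fun i => pull (U i).ι c) := by
  constructor
  · intro c c' h
    refine div_eq_one.1 (Groth.ModelsGraphs.PicDim.eq_one_of_disjoint_cover U hU hdisj (c / c') fun i => ?_)
    rw [map_div, div_eq_one]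
    exact congrFun h i
  · intro d
    choose L hL hd using fun i => PicGrp.exists_eq_cls (d i)
    have hloc : ∀ w : W, ∃ (O : W.Opens) (e : ∀ i, Γ(L i, (U i).ι ⁻¹ᵁ O)),
        w ∈ O ∧ ∀ i, Gen (L i) ((U i).ι ⁻¹ᵁ O) (e i) := by
      intro w
      obtain ⟨i₀, hw⟩ := Opens.mem_iSup.1 (hU.ge (Opens.mem_top w) : w ∈ iSup U)
      obtain ⟨A, a, hwA, ha⟩ := (isInvertible_iff_exists_gen (L i₀)).1 (hL i₀) ⟨w, hw⟩
      have ex : ∀ i, ∃ e : Γ(L i, (U i).ι ⁻¹ᵁ ((U i₀).ι ''ᵁ A)), Gen (L i) _ e := by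
        intro i
        by_cases h : i = i₀
        · subst h
          exact ⟨_, ha.res ((U i).ι.preimage_image_eq A).le⟩
        · refine ⟨0, Groth.VarietyBC.PicGlue.gen_of_le_bot _ (fun z hz => ?_) _⟩
          obtain ⟨z', -, hz'⟩ : ∃ z' ∈ A, (U i₀).ι z' = (U i).ι z := hz
          exact ((hdisj i i₀ h).le ⟨z.2, (congrArg (· ∈ U i₀) hz').mp z'.2⟩ : (U i).ι z ∈ (⊥ : W.Opens)).elim
      choose e he using ex
      exact ⟨_, e, ⟨⟨w, hw⟩, hwA, rfl⟩, he⟩
    choose O e hwO he using hloc
    obtain ⟨M, hM, hiso⟩ := Groth.VarietyBC.PicGlue.exists_glue_bijective O (fun i => (U i).ι) L e he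
      (eq_top_iff.2 fun w _ => Opens.mem_iSup.2 ⟨w, hwO w⟩)
      fun a b _ V _ => bijective_toPieces_opens U hU hdisj V
    refine ⟨PicGrp.cls M hM, funext fun i => ?_⟩
    show pull (U i).ι _ = d i
    rw [hd i, Groth.Abvar.PicCalc.pull_cls, ← Groth.Abvar.PicCalc.nonempty_iso_iff _ (hL i)]
    exact hiso i

/-- The torsion of a disjoint union. -/
theorem card_torsion_opens [Fintype ι] (n : ℕ) (hU : iSup U = ⊤) (hdisj : ∀ i j, i ≠ j → U i ⊓ U j = ⊥) :
    Nat.card {c : PicLoc.PicSet W // c ^ n = 1} =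
      ∏ i, Nat.card {c : PicLoc.PicSet (U i : Scheme.{u}) // c ^ n = 1} := by
  rw [← Nat.card_pi]
  refine Nat.card_congr (Equiv.ofBijective
    (fun c i => ⟨pull (U i).ι c.1, by rw [← map_pow, c.2, map_one]⟩) ⟨fun c c' h => ?_, fun d => ?_⟩)
  · exact Subtype.ext ((pull_opens_bijective U hU hdisj).1 (funext fun i => congrArg Subtype.val (congrFun h i)))
  · obtain ⟨c, hc⟩ := (pull_opens_bijective U hU hdisj).2 fun i => (d i).1
    refine ⟨⟨c, (pull_opens_bijective U hU hdisj).1 (funext fun i => ?_)⟩, funext fun i => Subtype.ext (congrFun hc i)⟩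
    show pull (U i).ι (c ^ n) = pull (U i).ι 1
    rw [map_pow, map_one, show pull (U i).ι c = _ from congrFun hc i, (d i).2]

/-- The genus of a disjoint union. -/
theorem genus_opens [Fintype ι] (k : Type u) [Field k] [W.Over (Spec (CommRingCat.of k))]
    [IsProper (W ↘ Spec (CommRingCat.of k))] (hU : iSup U = ⊤) (hdisj : ∀ i j, i ≠ j → U i ⊓ U j = ⊥) :
    Curv2.genus k W = ∑ i, (letI : (U i : Scheme.{u}).Over (Spec (CommRingCat.of k)) :=
      ⟨(U i).ι ≫ W ↘ Spec (CommRingCat.of k)⟩; Curv2.genus k (U i : Scheme.{u})) := by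
  classical
  haveI := fun i => isClosedImmersion_ι U hU hdisj i
  let M : ι → W.Modules := fun i => (Scheme.Modules.pushforward (U i).ι).obj (Coh.structureModule (U i : Scheme.{u}))
  let p : ∀ i, Coh.structureModule W ⟶ M i := fun i => ClSub.unitToPush (U i).ι
  let Φ : Coh.structureModule W ⟶ ⨁ M := biproduct.lift p
  have htot : (∑ i, biproduct.π M i ≫ biproduct.ι M i) = 𝟙 (⨁ M) := biproduct.hom_ext _ _ fun j => by
    rw [Preadditive.sum_comp, Finset.sum_eq_single j (fun i _ hij => by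
      rw [Category.assoc, biproduct.ι_π_ne _ hij, comp_zero]) (fun h => absurd (Finset.mem_univ j) h),
      Category.assoc, biproduct.ι_π_self, Category.comp_id, Category.id_comp]
  have hext : ∀ (V : W.Opens) (x y : Γ(⨁ M, V)),
      (∀ i, (biproduct.π M i).app V x = (biproduct.π M i).app V y) → x = y := by
    intro V x y h
    let ev : (z : Γ(⨁ M, V)) → ((⨁ M) ⟶ (⨁ M)) →+ Γ(⨁ M, V) := fun z =>
      AddMonoidHom.mk' (fun φ => φ.app V z) fun a b => by rw [Scheme.Modules.Hom.add_app]; rfl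
    have h0 : ∀ z, ev z (∑ i, biproduct.π M i ≫ biproduct.ι M i) = z := fun z => by
      rw [show (∑ i, biproduct.π M i ≫ biproduct.ι M i) = 𝟙 (⨁ M) from htot]; rfl
    rw [← h0 x, ← h0 y, map_sum, map_sum]
    refine Finset.sum_congr rfl fun i _ => ?_
    show (biproduct.π M i ≫ biproduct.ι M i).app V x = (biproduct.π M i ≫ biproduct.ι M i).app V y
    rw [Scheme.Modules.Hom.comp_app]
    exact congrArg ((biproduct.ι M i).app V) (h i)
  have hΦ : ∀ (V : W.Opens) (r : Γ(Coh.structureModule W, V)) (i : ι),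
      (biproduct.π M i).app V (Φ.app V r) = (U i).ι.app V (r : Γ(W, V)) := by
    intro V r i
    have h := congrArg (fun φ : Coh.structureModule W ⟶ M i => φ.app V r) (biproduct.lift_π p i)
    simp only [Scheme.Modules.Hom.comp_app] at h
    exact h
  haveI : IsIso Φ := by
    rw [Scheme.Modules.Hom.isIso_iff_isIso_app]
    intro V
    rw [ConcreteCategory.isIso_iff_bijective]
    refine ⟨fun r r' h => (bijective_toPieces_opens U hU hdisj V).1 (funext fun i => ?_), fun x => ?_⟩
    · show (U i).ι.app V (r : Γ(W, V)) = (U i).ι.app V (r' : Γ(W, V))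
      rw [← hΦ, ← hΦ, h]
    · obtain ⟨r, hr⟩ := (bijective_toPieces_opens U hU hdisj V).2 fun i =>
        ((biproduct.π M i).app V x : Γ((U i : Scheme.{u}), (U i).ι ⁻¹ᵁ V))
      exact ⟨r, hext V _ _ fun i => (hΦ V r i).trans (congrFun hr i)⟩
  let e₁ := Groth.EulerDeg.hEquiv k (asIso Φ) 1
  let e₂ : Coh.HH W (⨁ M) 1 ≃ₗ[k] ∀ i, Coh.HH W (M i) 1 :=
    LinearEquiv.ofLinearMap
      (LinearMap.pi fun i => Groth.EulerDeg.hMap k (biproduct.π M i) 1)
      (∑ i, (Groth.EulerDeg.hMap k (biproduct.ι M i) 1).comp (LinearMap.proj i))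
      (LinearMap.ext fun x => funext fun j => by
        simp only [LinearMap.comp_apply, LinearMap.sum_apply, LinearMap.proj_apply, LinearMap.pi_apply,
          map_sum, LinearMap.id_apply]
        rw [Finset.sum_eq_single j]
        · rw [← LinearMap.comp_apply, ← Groth.EulerDeg.hMap_comp, biproduct.ι_π_self,
            Groth.EulerDeg.hMap_id]
          rfl
        · intro i _ hij
          rw [← LinearMap.comp_apply, ← Groth.EulerDeg.hMap_comp, biproduct.ι_π_ne _ hij]
          have h2 := Groth.Curves1.RR.hMap_add k (0 : M i ⟶ M j) 0 1 (x i)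
          rw [add_zero] at h2
          exact left_eq_add.1 h2
        · simp)
      (LinearMap.ext fun x => by
        simp only [LinearMap.comp_apply, LinearMap.sum_apply, LinearMap.proj_apply, LinearMap.pi_apply,
          LinearMap.id_apply]
        let ev : ((⨁ M) ⟶ (⨁ M)) →+ Coh.HH W (⨁ M) 1 := AddMonoidHom.mk'
          (fun φ => Groth.EulerDeg.hMap k φ 1 x) fun a b => Groth.Curves1.RR.hMap_add k a b 1 x
        have h0 : ev (∑ i, biproduct.π M i ≫ biproduct.ι M i) = x := by
          rw [show (∑ i, biproduct.π M i ≫ biproduct.ι M i) = 𝟙 (⨁ M) from htot]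
          exact LinearMap.congr_fun (Groth.EulerDeg.hMap_id k (⨁ M) 1) x
        rw [map_sum] at h0
        refine Eq.trans (Finset.sum_congr rfl fun i _ => ?_) h0
        show _ = Groth.EulerDeg.hMap k (biproduct.π M i ≫ biproduct.ι M i) 1 x
        rw [Groth.EulerDeg.hMap_comp]
        rfl)
  have e₃ : ∀ i, Nonempty (Coh.HH W (M i) 1 ≃ₗ[k]
      (letI : (U i : Scheme.{u}).Over (Spec (CommRingCat.of k)) :=
        ⟨(U i).ι ≫ W ↘ Spec (CommRingCat.of k)⟩; Coh.HH (U i : Scheme.{u}) (Coh.structureModule (U i : Scheme.{u})) 1)) :=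
    fun i => CohC3.nonempty_linearEquiv_push_closed (U i).ι (W ↘ Spec (CommRingCat.of k)) 1
      (Coh.structureModule (U i : Scheme.{u}))
  haveI : ∀ i, Module.Finite k (Coh.HH W (M i) 1) := fun i => by
    letI : (U i : Scheme.{u}).Over (Spec (CommRingCat.of k)) := ⟨(U i).ι ≫ W ↘ Spec (CommRingCat.of k)⟩
    haveI : IsProper ((U i : Scheme.{u}) ↘ Spec (CommRingCat.of k)) :=
      inferInstanceAs (IsProper ((U i).ι ≫ W ↘ Spec (CommRingCat.of k)))
    haveI := CohC3.finite_HH_of_proper (A := k) (X := (U i : Scheme.{u}))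
      (Groth.Inter.isCoh_of_isInvertible (PicLoc.isInvertible_structureModule (U i : Scheme.{u}))) 1
    exact Module.Finite.equiv (e₃ i).some.symm
  show Module.finrank k _ = _
  rw [(e₁.trans e₂).finrank_eq, Module.finrank_pi_fintype]
  exact Finset.sum_congr rfl fun i _ => (e₃ i).some.finrank_eq

end Groth.ModelsGraphs.PicCount
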