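import Groth.Prelude.Def_Coh
import Mathlib

/-!
# Values of functions at closed points over an algebraically closed field
-/

set_option autoImplicit false
set_option linter.style.haveILetI false
set_option backward.isDefEq.respectTransparency false
set_option backward.isDefEq.respectTransparency.types false

universe u

open CategoryTheory AlgebraicGeometry Opposite TopologicalSpace

namespace Groth.ModelsGraphs.PicCount

variable {k : Type u} [Field k] [IsAlgClosed k] {W Y : Scheme.{u}}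
  (g : W ⟶ Spec (CommRingCat.of k)) [LocallyOfFiniteType g]

/-- The value at a closed point. -/
noncomputable def evPt {w : W} (hw : IsClosed ({w} : Set W)) (U : W.Opens) (hwU : w ∈ U) :
    Γ(W, U) →+* k :=
  (Scheme.ΓSpecIso (CommRingCat.of k)).hom.hom.comp
    ((pointOfClosedPoint g w hw).appLE U ⊤ fun z _ => by
      show pointOfClosedPoint g w hw z ∈ U
      rw [pointOfClosedPoint_apply]; exact hwU).hom

theorem evPt_res {w : W} (hw : IsClosed ({w} : Set W)) {U V : W.Opens} (hle : V ≤ U) (hwV : w ∈ V)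
    (r : Γ(W, U)) :
    evPt g hw V hwV (W.presheaf.map (homOfLE hle).op r) = evPt g hw U (hle hwV) r := by
  refine congrArg (fun z => (Scheme.ΓSpecIso (CommRingCat.of k)).hom z) ?_
  show ConcreteCategory.hom (W.presheaf.map (homOfLE hle).op ≫
    (pointOfClosedPoint g w hw).appLE V ⊤ _) r = _
  rw [Scheme.Hom.map_appLE]

theorem evPt_ne_zero_iff {w : W} (hw : IsClosed ({w} : Set W)) {U : W.Opens} (hwU : w ∈ U)
    (r : Γ(W, U)) : evPt g hw U hwU r ≠ 0 ↔ w ∈ W.basicOpen r := by
  let σ := pointOfClosedPoint g w hw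
  let pt : Spec (CommRingCat.of k) := IsLocalRing.closedPoint k
  have hσ : σ pt = w := pointOfClosedPoint_apply g w hw pt
  have hle : (⊤ : (Spec (CommRingCat.of k)).Opens) ≤ σ ⁻¹ᵁ U := fun z _ => by
    show σ z ∈ U
    rw [pointOfClosedPoint_apply]; exact hwU
  have hmem : w ∈ W.basicOpen r ↔ pt ∈ (Spec (CommRingCat.of k)).basicOpen (σ.appLE U ⊤ hle r) := by
    rw [Scheme.basicOpen_appLE, top_inf_eq]
    exact iff_of_eq (congrArg (· ∈ W.basicOpen r) hσ.symm)
  rw [hmem, Scheme.mem_basicOpen_top]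
  constructor
  · intro h
    have h2 : IsUnit (σ.appLE U ⊤ hle r) := by
      rw [← isUnit_map_iff (Scheme.ΓSpecIso (CommRingCat.of k)).commRingCatIsoToRingEquiv]
      exact isUnit_iff_ne_zero.2 h
    exact h2.map _
  · intro h h0
    have h2 : σ.appLE U ⊤ hle r = 0 :=
      (Scheme.ΓSpecIso (CommRingCat.of k)).commRingCatIsoToRingEquiv.injective (h0.trans (map_zero _).symm)
    rw [h2, map_zero] at h
    exact not_isUnit_zero h

theorem evPt_const {w : W} (hw : IsClosed ({w} : Set W)) {U : W.Opens} (hwU : w ∈ U) (c : k) :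
    evPt g hw U hwU (W.presheaf.map (homOfLE (le_top : U ≤ ⊤)).op (Coh.toGlobal g c)) = c := by
  rw [evPt_res]
  show (Scheme.ΓSpecIso (CommRingCat.of k)).hom
    ((pointOfClosedPoint g w hw).appLE ⊤ ⊤ _ (g.appTop ((Scheme.ΓSpecIso (CommRingCat.of k)).inv c))) = c
  rw [Scheme.Hom.appLE, ← CommRingCat.comp_apply (Scheme.Hom.appTop g)]
  have e := congrArg Scheme.Hom.appTop (pointOfClosedPoint_comp g w hw)
  simp only [Scheme.Hom.comp_appTop, Scheme.Hom.id_appTop] at e
  have e' := ConcreteCategory.congr_hom e ((Scheme.ΓSpecIso (CommRingCat.of k)).inv c)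
  simp only [CommRingCat.comp_apply, CommRingCat.id_apply] at e' ⊢
  refine Eq.trans (congrArg (fun z => (Scheme.ΓSpecIso (CommRingCat.of k)).hom z) ?_)
    (by rw [← CommRingCat.comp_apply, Iso.inv_hom_id]; rfl)
  exact (ConcreteCategory.congr_hom ((Spec (CommRingCat.of k)).presheaf.map_id (op ⊤)) _).trans e'

omit [IsAlgClosed k] [LocallyOfFiniteType g] in
theorem appLE_congr {A B : Scheme.{u}} {a b : A ⟶ B} (h : a = b) (U : B.Opens) (V : A.Opens)
    (e : V ≤ a ⁻¹ᵁ U) (e' : V ≤ b ⁻¹ᵁ U) : a.appLE U V e = b.appLE U V e' := by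
  subst h; rfl

variable (f : Y ⟶ Spec (CommRingCat.of k)) [LocallyOfFiniteType f] (ν : W ⟶ Y) (hν : ν ≫ f = g)

include hν in
theorem pointOfClosedPoint_map {w : W} (hw : IsClosed ({w} : Set W)) (hx : IsClosed ({ν w} : Set Y)) :
    pointOfClosedPoint g w hw ≫ ν = pointOfClosedPoint f (ν w) hx := by
  refine ext_of_apply_closedPoint_eq f (by rw [Category.assoc, hν, pointOfClosedPoint_comp])
    (pointOfClosedPoint_comp f (ν w) hx) ?_
  rw [Scheme.Hom.comp_apply, pointOfClosedPoint_apply, pointOfClosedPoint_apply]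

include hν in
theorem evPt_app {w : W} (hw : IsClosed ({w} : Set W)) (hx : IsClosed ({ν w} : Set Y)) {V : Y.Opens}
    (hwV : ν w ∈ V) (r : Γ(Y, V)) :
    evPt g hw (ν ⁻¹ᵁ V) hwV (ν.app V r) = evPt f hx V hwV r := by
  refine congrArg (fun z => (Scheme.ΓSpecIso (CommRingCat.of k)).hom z) ?_
  rw [Scheme.Hom.app_eq_appLE, ← CommRingCat.comp_apply, Scheme.Hom.appLE_comp_appLE]
  exact congrArg (fun φ : Γ(Y, V) ⟶ Γ(Spec (CommRingCat.of k), ⊤) => φ r)
    (appLE_congr (pointOfClosedPoint_map g f ν hν hw hx) V ⊤ _ _)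

end Groth.ModelsGraphs.PicCount
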