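import Groth.Agent.ModelsGraphs.PicCount.Glue

/-!
# The invariant of a torsion class trivial upstairs
-/

set_option autoImplicit false
set_option linter.style.haveILetI false
set_option backward.isDefEq.respectTransparency false
set_option backward.defeqAttrib.useBackward true
set_option backward.isDefEq.respectTransparency.types false

universe u

open CategoryTheory CategoryTheory.Limits AlgebraicGeometry Opposite TopologicalSpace
open Groth.PicAux
open Groth.Abvar.PicCalc (pull cls)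
open scoped Groth.Abvar.PicCalc

namespace Groth.ModelsGraphs.PicCount

set_option maxHeartbeats 1600000

variable {k : Type u} [Field k] [IsAlgClosed k] {W Y : Scheme.{u}} {ν : W ⟶ Y}
  {f : Y ⟶ Spec (CommRingCat.of k)} [LocallyOfFiniteType f]
  {g : W ⟶ Spec (CommRingCat.of k)} [LocallyOfFiniteType g] (hν : ν ≫ f = g) {S : Set Y} {n : ℕ}

omit [IsAlgClosed k] [LocallyOfFiniteType f] [LocallyOfFiniteType g] in
include hν in
theorem app_cst (V : Y.Opens) (c : k) : ν.app V (cst f V c) = cst g (ν ⁻¹ᵁ V) c := by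
  subst hν
  exact resX_app ν (le_top : V ≤ ⊤) (Coh.toGlobal f c)

theorem map_inv_mul_self {R R' : Type*} [CommRing R] [CommRing R'] {a : R} (h : IsUnit a) (φ : R →+* R') :
    φ h.unit⁻¹.1 * φ a = 1 := by
  rw [← map_mul, h.val_inv_mul, map_one]

theorem glue_aux {R : Type*} [CommRing R] {n : ℕ} {bx b' rx r' ix iy e : R} (h : bx = e * b')
    (h' : rx = e ^ n * r') (hx : ix * rx = 1) (hy : iy * r' = 1) : bx ^ n * ix * rx = b' ^ n * iy * rx := by
  rw [mul_assoc, hx, mul_one, h, h', mul_pow]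
  linear_combination (-(e ^ n * b' ^ n)) * hy

omit [IsAlgClosed k] [LocallyOfFiniteType f] in
theorem cst_res {U V : Y.Opens} (h : V ≤ U) (c : k) : resX Y h (cst f U c) = cst f V c :=
  resX_resX (X := Y) le_top h (Coh.toGlobal f c)

omit [IsAlgClosed k] in
theorem isClosed_fibre [IsFinite ν] {w : W} (hw : IsClosed ({ν w} : Set Y)) : IsClosed ({w} : Set W) := by
  have hf : IsClosed (ν.base ⁻¹' {ν w}) := hw.preimage ν.continuous
  haveI : DiscreteTopology ↥(ν.base ⁻¹' {ν w}) :=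
    isDiscrete_iff_discreteTopology.1 (ν.isDiscrete_preimage_singleton (ν w))
  have h1 : IsClosed ({⟨w, rfl⟩} : Set ↥(ν.base ⁻¹' {ν w})) := isClosed_discrete _
  simpa using hf.isClosedEmbedding_subtypeVal.isClosedMap _ h1

variable [IsFinite ν]

omit [IsFinite ν] in
include hν in
/-- Changing a datum by constants. -/
theorem nonempty_data_scale {L : Y.Modules} {ζ₀ ζ : W → kˣ} (D : Data ν g (∅ : Set Y) n ζ₀ L)
    (c : Y → kˣ)
    (hval : ∀ x ∈ S, ∀ (w : W) (hw : IsClosed ({w} : Set W)) (hwO : w ∈ ν ⁻¹ᵁ D.O x), ν w = x →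
      (c x : k) * evPt g hw (ν ⁻¹ᵁ D.O x) hwO (D.b x) = (ζ w : k)) :
    Nonempty (Data ν g S n ζ L) := by
  have hu : ∀ y, IsUnit (cst f (D.O y) (c y : k)) := fun y => (c y).isUnit.map _
  refine ⟨⟨D.O, D.mem, fun y => cst f (D.O y) (c y : k) • D.s y, fun y => (D.gen y).smul_unit (hu y),
    fun y => cst g (ν ⁻¹ᵁ D.O y) (c y : k) * D.b y, fun y => cst f (D.O y) (c y : k) ^ n * D.r y,
    fun y => by rw [map_mul, map_pow, app_cst hν, D.app_r, mul_pow],
    fun y => ((c y).isUnit.map _).mul (D.unit y), fun x y V hx hy η hη => ?_, fun x hx w hw hwO hwx => ?_⟩⟩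
  · obtain ⟨η₀, hη₀⟩ := (D.gen y).exists_coeff hy (res L hx (D.s x))
    have e := D.compat x y V hx hy η₀ hη₀
    simp only [res_smul, cst_res, smul_smul] at hη
    rw [hη₀, smul_smul] at hη
    have h1 := congrArg (ν.app V) ((D.gen y).smul_inj hy hη)
    rw [map_mul, map_mul, app_cst hν, app_cst hν] at h1
    rw [map_mul, map_mul, cst_res, cst_res, e, ← mul_assoc, h1, mul_assoc]
  · rw [map_mul, evPt_cst g hw hwO, hval x hx w hw hwO hwx]

variable [Surjective ν] [IsReduced Y] (hS : S.Finite) (hSc : ∀ s ∈ S, IsClosed ({s} : Set Y))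

include hν hS hSc in
/-- Invariants from constants downstairs and locally constant functions upstairs are trivial. -/
theorem rel_one_of_eq (hn : n ≠ 0) {ζ : W → kˣ} (lam : Y → rootsOfUnity n k) (μ : LocallyConstant W (rootsOfUnity n k))
    (h : ∀ w, ν w ∈ S → ζ w = (lam (ν w)).1 * (μ w).1) : Rel ν g S n ζ 1 := by
  obtain ⟨M, hM, hMv⟩ := exists_section g μ
  choose O hO hyO hle hOS using fun y : Y => exists_chart_of_finite hS hSc ⊤ y trivial
  let D : Data ν g (∅ : Set Y) n (1 : W → kˣ) (Coh.structureModule Y) :=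
    { O := O
      mem := hyO
      s := fun y => oneSec Y (O y)
      gen := fun y => gen_oneSec _
      b := fun y => resX W le_top M
      r := fun y => 1
      app_r := fun y => by rw [map_one, ← map_pow, hM, map_one]
      unit := fun y => (IsUnit.of_pow_eq_one hM hn).map _
      compat := fun x y V hx hy η hη => by
        simp only [res_oneSec] at hη
        have : η = 1 := (gen_oneSec (X := Y) V).smul_inj le_rfl (by rw [res_self, ← hη, one_smul])
        rw [this, map_one, one_mul, resX_resX, resX_resX]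
      values := fun x hx => absurd hx (Set.notMem_empty _) }
  refine ⟨_, PicLoc.isInvertible_structureModule Y, ?_, ?_⟩
  · exact (Groth.Abvar.PicCalc.nonempty_iso_structure_iff _).1 ⟨Iso.refl _⟩
  refine nonempty_data_scale hν D (fun x => (lam x).1) fun x hx w hw hwO hwx => ?_
  show _ * evPt g hw _ hwO (resX W le_top M) = _
  rw [evPt_resX g hw _ hwO, hMv w hw, h w (hwx ▸ hx), hwx, Units.val_mul]

include hν hS hSc in
/-- Trivial classes have such invariants. -/
theorem exists_eq_of_rel_one [IsProper f] [ConnectedSpace Y] (hn : (n : k) ≠ 0) {ζ : W → kˣ}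
    (hζ : ∀ w, ν w ∈ S → ζ w ^ n = 1) (h : Rel ν g S n ζ 1) :
    ∃ (lam : Y → rootsOfUnity n k) (μ : LocallyConstant W (rootsOfUnity n k)),
      ∀ w, ν w ∈ S → ζ w = (lam (ν w)).1 * (μ w).1 := by
  classical
  obtain ⟨L, hL, hcls, ⟨D⟩⟩ := h
  obtain ⟨e⟩ := (Groth.Abvar.PicCalc.nonempty_iso_structure_iff hL).2 hcls
  have hσ : Gen L ⊤ (e.inv.app ⊤ (oneSec Y ⊤)) := (gen_oneSec ⊤).map e.inv
  choose t ht using fun y => (hσ.res (le_top : D.O y ≤ ⊤)).exists_unit (D.gen y)
  have htu : ∀ y, IsUnit (ν.app (D.O y) (t y).1) := fun y => (t y).isUnit.map _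
  have hag : ∀ x y, resX W (ν.preimage_mono (inf_le_left : D.O x ⊓ D.O y ≤ D.O x)) (D.b x * (htu x).unit⁻¹.1) =
      resX W (ν.preimage_mono (inf_le_right : D.O x ⊓ D.O y ≤ D.O y)) (D.b y * (htu y).unit⁻¹.1) := by
    intro x y
    obtain ⟨η, hη⟩ := (D.gen y).exists_coeff inf_le_right (res L (inf_le_left : D.O x ⊓ D.O y ≤ D.O x) (D.s x))
    have e1 := D.compat x y _ _ _ η hη
    rw [ht x, ht y] at hη
    simp only [res_smul, res_res, smul_smul] at hη
    have h1 := congrArg (ν.app _) (hσ.smul_inj le_top hη)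
    rw [map_mul, resX_app, resX_app] at h1
    refine (((htu x).map (resX W (ν.preimage_mono inf_le_left))).mul_left_injective) ?_
    show _ * _ = _ * _
    rw [← map_mul, mul_assoc, (htu x).val_inv_mul, mul_one, e1, h1,
      mul_comm (ν.app _ η), mul_comm (ν.app _ η), ← mul_assoc, ← map_mul, mul_assoc,
      (htu y).val_inv_mul, mul_one]
  obtain ⟨B, hB, -⟩ := resX_glue (fun y => ν ⁻¹ᵁ D.O y) (fun _ => le_top)
    (fun w _ => Opens.mem_iSup.2 ⟨ν w, D.mem (ν w)⟩) (fun y => D.b y * (htu y).unit⁻¹.1) hag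
  have hag' : ∀ x y, resX Y (inf_le_left : D.O x ⊓ D.O y ≤ D.O x) (D.r x * ((t x)⁻¹).1 ^ n) =
      resX Y (inf_le_right : D.O x ⊓ D.O y ≤ D.O y) (D.r y * ((t y)⁻¹).1 ^ n) := by
    intro x y
    refine app_injective ν _ ?_
    have h2 : ∀ z, ν.app (D.O z) ((t z)⁻¹).1 = (htu z).unit⁻¹.1 := fun z => by
      refine (htu z).mul_left_injective ?_
      show _ * _ = _ * _
      rw [← map_mul, Units.inv_mul, map_one, (htu z).val_inv_mul]
    rw [resX_app, resX_app]
    simp only [map_mul, map_pow, D.app_r, h2, ← mul_pow]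
    rw [← map_mul, ← map_mul, hag x y]
  obtain ⟨G, hG, -⟩ := resX_glue D.O (fun _ => le_top)
    (fun y _ => Opens.mem_iSup.2 ⟨y, D.mem y⟩) (fun y => D.r y * ((t y)⁻¹).1 ^ n) hag'
  obtain ⟨γ, rfl⟩ := exists_eq_toGlobal f G
  obtain ⟨y₀⟩ : Nonempty Y := inferInstance
  have hγ : γ ≠ 0 := by
    rintro rfl
    have h1 : IsUnit (resX Y (le_top : D.O y₀ ≤ ⊤) (glob f (0 : k))) := by
      rw [hG y₀]; exact (D.isUnit_r y₀).mul ((Units.isUnit _).pow n)
    rw [map_zero, map_zero, isUnit_zero_iff] at h1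
    have h2 := congrArg (Y.presheaf.germ (D.O y₀) y₀ (D.mem y₀)) h1
    rw [map_zero, map_one] at h2
    exact zero_ne_one h2
  have hn0 : n ≠ 0 := fun h => hn (by rw [h, Nat.cast_zero])
  obtain ⟨δ, hδ⟩ := IsAlgClosed.exists_pow_nat_eq γ (Nat.pos_of_ne_zero hn0)
  have hδ0 : δ ≠ 0 := fun h => hγ (by rw [← hδ, h, zero_pow hn0])
  have hBn : (B * glob g δ⁻¹) ^ n = 1 := by
    refine resX_ext (fun y => ν ⁻¹ᵁ D.O y) (fun _ => le_top)
      (fun w _ => Opens.mem_iSup.2 ⟨ν w, D.mem (ν w)⟩) fun y => ?_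
    rw [map_pow, map_mul, hB y, map_one, mul_pow, mul_pow, ← D.app_r]
    have h3 := congrArg (ν.app (D.O y)) (hG y)
    rw [map_mul, map_pow] at h3
    have h4 : ν.app (D.O y) ((t y)⁻¹).1 = (htu y).unit⁻¹.1 := by
      refine (htu y).mul_left_injective ?_
      show _ * _ = _ * _
      rw [← map_mul, Units.inv_mul, map_one, (htu y).val_inv_mul]
    rw [h4] at h3
    rw [← h3]
    show ν.app (D.O y) (cst f (D.O y) γ) * cst g (ν ⁻¹ᵁ D.O y) δ⁻¹ ^ n = 1
    rw [app_cst hν, ← map_pow, ← map_mul, inv_pow, hδ, mul_inv_cancel₀ hγ, map_one]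
  obtain ⟨μ, hμ⟩ := exists_locallyConstant g hn hBn
  have key : ∀ w (hw : ν w ∈ S),
      (ζ w : k) = evPt f (hSc _ hw) (D.O (ν w)) (D.mem _) (t (ν w)).1 * δ * ((μ w).1 : k) := by
    intro w hw
    have hwc : IsClosed ({w} : Set W) := isClosed_fibre (hSc _ hw)
    have hwO : w ∈ ν ⁻¹ᵁ D.O (ν w) := D.mem (ν w)
    have h1 : D.b (ν w) = ν.app _ (t (ν w)).1 * resX W le_top B := by
      rw [hB (ν w), mul_left_comm, (htu (ν w)).mul_val_inv, mul_one]
    have h5 : δ * ((μ w).1 : k) = evPt g hwc ⊤ (Opens.mem_top w) B := by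
      rw [← hμ w hwc, map_mul,
        evPt_eq_of_notMem g (b := glob g δ⁻¹) hwc (r := δ⁻¹) (by rw [sub_self, Scheme.basicOpen_zero]; exact id),
        mul_left_comm, mul_inv_cancel₀ hδ0, mul_one]
    rw [← D.values _ hw w hwc hwO rfl, h1, map_mul, evPt_app_of_eq ν f g hν hwc rfl (hSc _ hw) hwO (D.mem _),
      evPt_resX g hwc _ hwO, mul_assoc, h5]
  choose w₀ hw₀ using ν.surjective
  let lam : Y → rootsOfUnity n k := fun x => if hx : x ∈ S then
    ⟨ζ (w₀ x) * (μ (w₀ x)).1⁻¹, (mem_rootsOfUnity n _).2 (by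
      rw [mul_pow, hζ _ (show ν (w₀ x) ∈ S from (hw₀ x).symm ▸ hx), inv_pow,
        (mem_rootsOfUnity n _).1 (μ (w₀ x)).2, inv_one, mul_one])⟩ else 1
  refine ⟨lam, μ, fun w hw => Units.ext ?_⟩
  simp only [lam, dif_pos hw, Units.val_mul]
  rw [key w hw, key (w₀ (ν w)) ((hw₀ (ν w)).symm ▸ hw), mul_assoc (_ * δ), ← Units.val_mul,
    mul_inv_cancel, Units.val_one, mul_one]
  congr 2
  have : ∀ (x x' : Y) (h : x = x') (hx : x ∈ S) (hx' : x' ∈ S),
      evPt f (hSc x hx) (D.O x) (D.mem x) (t x).1 = evPt f (hSc x' hx') (D.O x') (D.mem x') (t x').1 := by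
    rintro x _ rfl _ _; rfl
  exact this _ _ (hw₀ (ν w)).symm hw ((hw₀ (ν w)).symm ▸ hw)

include hν hSc in
/-- Torsion classes trivial upstairs have an invariant. -/
theorem exists_rel_of_pull [ConnectedSpace Y] (hn : (n : k) ≠ 0)
    (hroot : ∀ v : (Γ(W, ⊤))ˣ, ∃ ρ, ρ ^ n = v) {c : PicLoc.PicSet Y} (hc : c ^ n = 1) (hp : pull ν c = 1) :
    ∃ ζ : W → kˣ, (∀ w, ν w ∈ S → ζ w ^ n = 1) ∧ Rel ν g S n ζ c := by
  classical
  obtain ⟨L, hL, rfl⟩ := PicGrp.exists_eq_cls c
  obtain ⟨e⟩ : Nonempty ((Scheme.Modules.pullback ν).obj L ≅ Coh.structureModule W) := by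
    rw [Groth.Abvar.PicCalc.nonempty_iso_structure_iff (PicLoc.isInvertible_pullback _ hL),
      ← Groth.Abvar.PicCalc.pull_cls]
    exact hp
  obtain ⟨φ⟩ : Nonempty (CohB1.tensorPow L n ≅ Coh.structureModule Y) := by
    rw [Groth.Abvar.PicCalc.nonempty_iso_structure_iff (Groth.Abvar.PicCalc.isInvertible_tensorPow hL n),
      Groth.Abvar.PicCalc.cls_tensorPow]
    exact hc
  choose O s hyO hs using fun y => (isInvertible_iff_exists_gen L).1 hL y
  choose r hr using fun y => (gen_oneSec (X := Y) (O y)).exists_unit (((hs y).pow n).map φ.hom)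
  choose b hb using fun y => (gen_oneSec (X := W) (ν ⁻¹ᵁ O y)).exists_unit (((hs y).pull ν).map e.hom)
  have hcomp : ∀ (x y : Y) (V : Y.Opens) (hx : V ≤ O x) (hy : V ≤ O y) (η : Γ(Y, V)),
      res L hx (s x) = η • res L hy (s y) →
      resX W (ν.preimage_mono hx) (b x).1 = ν.app V η * resX W (ν.preimage_mono hy) (b y).1 ∧
      resX Y hx (r x).1 = η ^ n * resX Y hy (r y).1 := by
    intro x y V hx hy η hη
    constructor
    · refine (gen_oneSec (X := W) (ν ⁻¹ᵁ V)).smul_inj le_rfl ?_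
      have h1 := congrArg (res _ (ν.preimage_mono hx)) (hb x)
      rw [← app_res, res_pullSec ν L hx, hη, pullSec_smul, Scheme.Modules.Hom.app_smul, ← res_pullSec ν L hy,
        app_res, hb y, res_smul, res_smul, res_oneSec, res_oneSec, smul_smul] at h1
      rw [res_self]
      exact h1.symm
    · refine (gen_oneSec (X := Y) V).smul_inj le_rfl ?_
      have h1 := congrArg (res _ hx) (hr x)
      rw [← app_res, res_powSec, hη, powSec_smul, Scheme.Modules.Hom.app_smul, ← res_powSec, app_res, hr y,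
        res_smul, res_smul, res_oneSec, res_oneSec, smul_smul] at h1
      rw [res_self]
      exact h1.symm
  have hru : ∀ y, IsUnit (ν.app (O y) (r y).1) := fun y => (r y).isUnit.map _
  obtain ⟨G, hG, -⟩ := resX_glue (fun y => ν ⁻¹ᵁ O y) (fun _ => le_top)
    (fun w _ => Opens.mem_iSup.2 ⟨ν w, hyO (ν w)⟩) (fun y => (b y).1 ^ n * (hru y).unit⁻¹.1) fun x y => by
      obtain ⟨η, hη⟩ := (hs y).exists_coeff inf_le_right (res L (inf_le_left : O x ⊓ O y ≤ O x) (s x))
      obtain ⟨e1, e2⟩ := hcomp x y _ _ _ η hη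
      have e3 := congrArg (ν.app _) e2
      rw [map_mul, map_pow, resX_app, resX_app] at e3
      refine ((hru x).map (resX W (ν.preimage_mono inf_le_left))).mul_left_injective ?_
      show _ * _ = _ * _
      simp only [map_mul, map_pow]
      exact glue_aux e1 e3 (map_inv_mul_self (hru x) (resX W (ν.preimage_mono inf_le_left)))
        (map_inv_mul_self (hru y) (resX W (ν.preimage_mono inf_le_right)))
  have hGu : IsUnit G := by
    have htop : W.basicOpen G = ⊤ := eq_top_iff.2 fun w _ => by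
      have hwO : w ∈ ν ⁻¹ᵁ O (ν w) := hyO (ν w)
      have h1 : w ∈ W.basicOpen (resX W (le_top : ν ⁻¹ᵁ O (ν w) ≤ ⊤) G) := by
        rw [hG (ν w), W.basicOpen_of_isUnit (((b (ν w)).isUnit.pow n).mul (Units.isUnit _))]
        exact hwO
      exact ((Scheme.basicOpen_res (X := W) G (homOfLE (le_top : ν ⁻¹ᵁ O (ν w) ≤ ⊤)).op).le h1).2
    have h1 := RingedSpace.isUnit_res_basicOpen W.toRingedSpace G
    have h2 : IsUnit (resX W htop.ge (resX W (W.basicOpen_le G) G)) := IsUnit.map _ h1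
    rwa [resX_resX, resX_self] at h2
  obtain ⟨ρ, hρ⟩ := hroot hGu.unit
  have hρn : ∀ y, ν.app (O y) (r y).1 = ((b y).1 * resX W le_top ((ρ⁻¹ : (Γ(W, ⊤))ˣ) : Γ(W, ⊤))) ^ n := by
    intro y
    rw [mul_pow, ← map_pow, ← Units.val_pow_eq_pow_val (ρ⁻¹) n, inv_pow, hρ]
    refine ((hGu.map (resX W (le_top : ν ⁻¹ᵁ O y ≤ ⊤)))).mul_left_injective ?_
    show _ * _ = _ * _
    rw [mul_assoc, ← map_mul, hGu.val_inv_mul, map_one, mul_one, hG y, mul_left_comm,
      (hru y).mul_val_inv, mul_one]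
  let D : Data ν g (∅ : Set Y) n (1 : W → kˣ) L :=
    { O := O
      mem := hyO
      s := s
      gen := hs
      b := fun y => (b y).1 * resX W le_top ((ρ⁻¹ : (Γ(W, ⊤))ˣ) : Γ(W, ⊤))
      r := fun y => (r y).1
      app_r := hρn
      unit := fun y => (b y).isUnit.mul ((Units.isUnit _).map _)
      compat := fun x y V hx hy η hη => by
        rw [map_mul, map_mul, resX_resX, resX_resX, (hcomp x y V hx hy η hη).1, mul_assoc]
      values := fun x hx => absurd hx (Set.notMem_empty _) }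
  have hr0 : ∀ x (hx : x ∈ S), evPt f (hSc x hx) (O x) (hyO x) (r x).1 ≠ 0 := fun x hx =>
    ((r x).isUnit.map _).ne_zero
  have hn0 : n ≠ 0 := fun h => hn (by rw [h, Nat.cast_zero])
  choose p hp using fun (x : Y) (hx : x ∈ S) => IsAlgClosed.exists_pow_nat_eq
    (evPt f (hSc x hx) (O x) (hyO x) (r x).1) (Nat.pos_of_ne_zero hn0)
  have hp0 : ∀ x hx, p x hx ≠ 0 := fun x hx h => hr0 x hx (by
    rw [← hp x hx, h, zero_pow hn0])
  let c : Y → kˣ := fun x => if hx : x ∈ S then (Units.mk0 (p x hx) (hp0 x hx))⁻¹ else 1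
  have hbu : ∀ (w : W) (hw : ν w ∈ S),
      IsUnit (evPt g (isClosed_fibre (hSc _ hw)) (ν ⁻¹ᵁ O (ν w)) (hyO (ν w)) (D.b (ν w))) := fun w hw =>
    (D.unit (ν w)).map _
  let ζ : W → kˣ := fun w => if hw : ν w ∈ S then c (ν w) * (hbu w hw).unit else 1
  refine ⟨ζ, fun w hw => ?_, L, hL, rfl, nonempty_data_scale hν D c fun x hx w hwc hwO hwx => ?_⟩
  · refine Units.ext ?_
    simp only [ζ, c, dif_pos hw, Units.val_pow_eq_pow_val, Units.val_mul, IsUnit.unit_spec, mul_pow,
      Units.val_inv_eq_inv_val, Units.val_mk0, inv_pow, hp, Units.val_one]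
    rw [← map_pow, ← D.app_r, evPt_app_of_eq ν f g hν _ rfl (hSc _ hw) _ (hyO _)]
    exact inv_mul_cancel₀ (hr0 _ hw)
  · subst hwx
    simp only [ζ, dif_pos hx, Units.val_mul, IsUnit.unit_spec]
    rfl

end Groth.ModelsGraphs.PicCount
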