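import Groth.Agent.ModelsGraphs.PicCount.Chart

/-!
# Units upstairs whose power comes from downstairs, near a point
-/

set_option autoImplicit false
set_option linter.style.haveILetI false
set_option backward.isDefEq.respectTransparency false
set_option backward.isDefEq.respectTransparency.types false

universe u

open CategoryTheory AlgebraicGeometry Opposite TopologicalSpace

namespace Groth.ModelsGraphs.PicCount

set_option maxHeartbeats 800000

variable {k : Type u} [Field k] [IsAlgClosed k] {W Y : Scheme.{u}} (ν : W ⟶ Y) [IsFinite ν]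
  (f : Y ⟶ Spec (CommRingCat.of k)) [LocallyOfFiniteType f]
  (g : W ⟶ Spec (CommRingCat.of k)) [LocallyOfFiniteType g] (hν : ν ≫ f = g)
  {x : Y} {hx : IsClosed ({x} : Set Y)} {V : Y.Opens} {hxV : x ∈ V}

/-- A point is determined by the functions vanishing at it. -/
theorem eq_of_ker_evPt {U : W.Opens} (hU : IsAffineOpen U) {w w' : W} (hw : IsClosed ({w} : Set W))
    (hw' : IsClosed ({w'} : Set W)) (hwU : w ∈ U) (hwU' : w' ∈ U)
    (h : RingHom.ker (evPt g hw U hwU) = RingHom.ker (evPt g hw' U hwU')) : w = w' := by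
  have key : ∀ (z : W) (hz : IsClosed ({z} : Set W)) (hzU : z ∈ U),
      (hU.primeIdealOf ⟨z, hzU⟩).asIdeal = RingHom.ker (evPt g hz U hzU) := fun z hz hzU => by
    ext b
    rw [RingHom.mem_ker, ← not_iff_not]
    exact ((Groth.VarietyBC.AffineUnion.mem_basicOpen_iff hU z hzU b).symm.trans
      (evPt_ne_zero_iff g hz hzU b).symm)
  have e : hU.primeIdealOf ⟨w, hwU⟩ = hU.primeIdealOf ⟨w', hwU'⟩ :=
    PrimeSpectrum.ext ((key w hw hwU).trans (h.trans (key w' hw' hwU').symm))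
  exact (hU.fromSpec_primeIdealOf ⟨w, hwU⟩).symm.trans
    ((congrArg _ e).trans (hU.fromSpec_primeIdealOf ⟨w', hwU'⟩))

variable (C : Conductor ν f g x hx V hxV)

/-- Vanishing at the fibre is nilpotence modulo the conductor. -/
theorem isNilpotent_mk (b : Γ(W, ν ⁻¹ᵁ V))
    (h : ∀ (w : W) (hw : IsClosed ({w} : Set W)) (hwV : w ∈ ν ⁻¹ᵁ V), ν w = x →
      evPt g hw (ν ⁻¹ᵁ V) hwV b = 0) :
    IsNilpotent (Ideal.Quotient.mk C.J b) := by
  haveI := C.artinian
  rw [nilpotent_iff_mem_prime]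
  intro P hP
  haveI : P.IsMaximal := IsArtinianRing.isMaximal_of_isPrime P
  obtain ⟨w, hw, hwV, hwx, hM⟩ := C.exists_point (P.comap (Ideal.Quotient.mk C.J))
    (Ideal.comap_isMaximal_of_surjective _ Ideal.Quotient.mk_surjective)
    (fun a ha => by rw [Ideal.mem_comap, Ideal.Quotient.eq_zero_iff_mem.2 ha]; exact P.zero_mem)
  rw [← Ideal.mem_comap, hM, RingHom.mem_ker]
  exact h w hw hwV hwx

theorem evPt_eq_zero_of_isNilpotent (b : Γ(W, ν ⁻¹ᵁ V)) (h : IsNilpotent (Ideal.Quotient.mk C.J b))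
    {w : W} (hw : IsClosed ({w} : Set W)) (hwV : w ∈ ν ⁻¹ᵁ V) (hwx : ν w = x) :
    evPt g hw (ν ⁻¹ᵁ V) hwV b = 0 := by
  obtain ⟨m, hm⟩ := h
  rw [← map_pow, Ideal.Quotient.eq_zero_iff_mem] at hm
  have := C.le_ker w hw hwV hwx hm
  rw [RingHom.mem_ker, map_pow] at this
  exact IsNilpotent.eq_zero ⟨m, this⟩

include hν C in
/-- Roots of unity at the fibre lift to functions whose power comes from downstairs. -/
theorem exists_values (hV : IsAffineOpen V) {n : ℕ} (hn : (n : k) ≠ 0) (ζ : W → k)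
    (hζ : ∀ w : W, ν w = x → ζ w ^ n = 1) :
    ∃ (b : Γ(W, ν ⁻¹ᵁ V)) (a : Γ(Y, V)), ν.app V a = b ^ n ∧
      ∀ (w : W) (hw : IsClosed ({w} : Set W)) (hwV : w ∈ ν ⁻¹ᵁ V), ν w = x →
        evPt g hw (ν ⁻¹ᵁ V) hwV b = ζ w := by
  classical
  haveI := C.artinian
  let Q := Γ(W, ν ⁻¹ᵁ V) ⧸ C.J
  let mk := Ideal.Quotient.mk C.J
  let c : k →+* Γ(W, ν ⁻¹ᵁ V) := (ν.app V).hom.comp (cst f V)
  have hc : ∀ (w : W) (hw : IsClosed ({w} : Set W)) (hwV : w ∈ ν ⁻¹ᵁ V) (z : k), ν w = x →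
      evPt g hw (ν ⁻¹ᵁ V) hwV (c z) = z := fun w hw hwV z hwx =>
    (evPt_app_of_eq ν f g hν hw hwx hx hwV hxV _).trans (evPt_cst f hx hxV z)
  choose w hw hwV hwx hM using fun m : MaximalSpectrum Q =>
    C.exists_point (m.asIdeal.comap mk)
      (haveI := m.isMaximal; Ideal.comap_isMaximal_of_surjective _ Ideal.Quotient.mk_surjective)
      (fun a ha => by rw [Ideal.mem_comap, Ideal.Quotient.eq_zero_iff_mem.2 ha]; exact Submodule.zero_mem _)
  obtain ⟨z, hz⟩ := (IsArtinianRing.quotNilradicalEquivPi Q).surjective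
    (fun m => Ideal.Quotient.mk m.asIdeal (mk (c (ζ (w m)))))
  obtain ⟨q, rfl⟩ := Ideal.Quotient.mk_surjective z
  obtain ⟨b₀, rfl⟩ := Ideal.Quotient.mk_surjective q
  have hb₀ : ∀ (v : W) (hv : IsClosed ({v} : Set W)) (hvV : v ∈ ν ⁻¹ᵁ V), ν v = x →
      evPt g hv (ν ⁻¹ᵁ V) hvV b₀ = ζ v := by
    intro v hv hvV hvx
    have hsurj : Function.Surjective (evPt g hv (ν ⁻¹ᵁ V) hvV) := fun z => ⟨c z, hc v hv hvV z hvx⟩
    haveI : (RingHom.ker (evPt g hv (ν ⁻¹ᵁ V) hvV)).IsMaximal := RingHom.ker_isMaximal_of_surjective _ hsurj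
    let m : MaximalSpectrum Q := ⟨(RingHom.ker (evPt g hv (ν ⁻¹ᵁ V) hvV)).map mk,
      Ideal.map_eq_top_or_isMaximal_of_surjective _ Ideal.Quotient.mk_surjective inferInstance |>.resolve_left
        fun htop => (inferInstance : (RingHom.ker (evPt g hv (ν ⁻¹ᵁ V) hvV)).IsMaximal).ne_top (by
          rw [eq_top_iff, ← Ideal.comap_top (f := mk), ← htop,
            Ideal.comap_map_of_surjective _ Ideal.Quotient.mk_surjective, ← RingHom.ker_eq_comap_bot,
            Ideal.mk_ker]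
          exact sup_le le_rfl (C.le_ker v hv hvV hvx))⟩
    have hcm : m.asIdeal.comap mk = RingHom.ker (evPt g hv (ν ⁻¹ᵁ V) hvV) := by
      rw [Ideal.comap_map_of_surjective _ Ideal.Quotient.mk_surjective, ← RingHom.ker_eq_comap_bot,
        Ideal.mk_ker, sup_eq_left]
      exact C.le_ker v hv hvV hvx
    have hwv : w m = v := eq_of_ker_evPt g (hV.preimage ν) (hw m) hv (hwV m) hvV ((hM m).symm.trans hcm)
    have h1 : Ideal.Quotient.mk m.asIdeal (mk b₀) = Ideal.Quotient.mk m.asIdeal (mk (c (ζ (w m)))) :=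
      congrFun hz m
    rw [Ideal.Quotient.eq, ← map_sub, ← Ideal.mem_comap, hcm, RingHom.mem_ker, map_sub, sub_eq_zero,
      hc v hv hvV _ hvx, hwv] at h1
    exact h1
  have hnil : IsNilpotent (mk b₀ ^ n - 1) := by
    rw [← map_one mk, ← map_pow, ← map_sub]
    exact isNilpotent_mk ν f g C _ fun v hv hvV hvx => by
      rw [map_sub, map_pow, map_one, hb₀ v hv hvV hvx, hζ v hvx, sub_self]
  have hnQ : IsUnit (n : Q) := by
    have := (IsUnit.mk0 (n : k) hn).map (mk.comp c)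
    rwa [map_natCast] at this
  have hn0 : n ≠ 0 := by rintro rfl; exact hn Nat.cast_zero
  have hu : IsUnit (mk b₀) := by
    have := hnil.isUnit_add_left_of_commute isUnit_one (Commute.all _ _)
    rw [add_sub_cancel] at this
    exact (isUnit_pow_iff hn0).1 this
  obtain ⟨r, ⟨hr₀, hr⟩, -⟩ := Polynomial.existsUnique_nilpotent_sub_and_aeval_eq_zero (S := Q)
    (P := (Polynomial.X ^ n - Polynomial.C (1 : Q))) (x := mk b₀) (by simpa using hnil) (by
      simp only [Polynomial.derivative_sub, Polynomial.derivative_X_pow, Polynomial.derivative_C, sub_zero,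
        Polynomial.aeval_mul, Polynomial.aeval_C, map_natCast, map_pow, Polynomial.aeval_X]
      exact hnQ.mul (hu.pow _))
  simp only [Polynomial.aeval_sub, map_pow, Polynomial.aeval_X, Polynomial.aeval_C,
    Algebra.algebraMap_self, RingHom.id_apply, sub_eq_zero] at hr
  obtain ⟨b, rfl⟩ := Ideal.Quotient.mk_surjective r
  obtain ⟨a, ha⟩ := C.mem_range (b ^ n - 1)
    (Ideal.Quotient.eq_zero_iff_mem.1 (by rw [map_sub, map_pow, map_one, hr, sub_self]))
  refine ⟨b, a + 1, by rw [map_add, ha, map_one, sub_add_cancel], fun v hv hvV hvx => ?_⟩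
  have h2 : evPt g hv (ν ⁻¹ᵁ V) hvV (b₀ - b) = 0 :=
    evPt_eq_zero_of_isNilpotent ν f g C _ (by rw [map_sub]; exact hr₀) hv hvV hvx
  rw [map_sub, sub_eq_zero] at h2
  rw [← h2, hb₀ v hv hvV hvx]

include hν C in
/-- A function with constant values at the fibre and power from downstairs comes from downstairs. -/
theorem exists_rigid {n : ℕ} (hn : (n : k) ≠ 0) (u : Γ(W, ν ⁻¹ᵁ V)) (r : Γ(Y, V))
    (hur : ν.app V r = u ^ n) (ρ : k) (hρ : ρ ≠ 0)
    (h : ∀ (w : W) (hw : IsClosed ({w} : Set W)) (hwV : w ∈ ν ⁻¹ᵁ V), ν w = x →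
      evPt g hw (ν ⁻¹ᵁ V) hwV u = ρ) :
    ∃ t : Γ(Y, V), ν.app V t = u := by
  classical
  let mk := Ideal.Quotient.mk C.J
  let mkA := Ideal.Quotient.mk (C.J.comap (ν.app V).hom)
  let i : (Γ(Y, V) ⧸ C.J.comap (ν.app V).hom) →+* Γ(W, ν ⁻¹ᵁ V) ⧸ C.J := Ideal.quotientMap C.J (ν.app V).hom le_rfl
  have hi : Function.Injective i := Ideal.quotientMap_injective
  have hc : ∀ (w : W) (hw : IsClosed ({w} : Set W)) (hwV : w ∈ ν ⁻¹ᵁ V) (z : k), ν w = x →
      evPt g hw (ν ⁻¹ᵁ V) hwV (ν.app V (cst f V z)) = z := fun w hw hwV z hwx =>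
    (evPt_app_of_eq ν f g hν hw hwx hx hwV hxV _).trans (evPt_cst f hx hxV z)
  let R : (Γ(Y, V) ⧸ C.J.comap (ν.app V).hom) := mkA (cst f V ρ)
  have hRu : IsUnit R := ((IsUnit.mk0 ρ hρ).map (cst f V)).map mkA
  have hiR : i R = mk (ν.app V (cst f V ρ)) := rfl
  have hnil : IsNilpotent (R ^ n - mkA r) := by
    rw [← IsNilpotent.map_iff hi, map_sub, map_pow, hiR,
      show i (mkA r) = mk (ν.app V r) from rfl, hur, ← map_pow, ← map_sub]
    exact isNilpotent_mk ν f g C _ fun w hw hwV hwx => by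
      rw [map_sub, map_pow, map_pow, hc w hw hwV ρ hwx, h w hw hwV hwx, sub_self]
  have hn0 : n ≠ 0 := by rintro rfl; exact hn Nat.cast_zero
  have hnQ : IsUnit (n : (Γ(Y, V) ⧸ C.J.comap (ν.app V).hom)) := by
    have := ((IsUnit.mk0 (n : k) hn).map (cst f V)).map mkA
    rwa [map_natCast, map_natCast] at this
  obtain ⟨t, ⟨ht₀, ht⟩, -⟩ := Polynomial.existsUnique_nilpotent_sub_and_aeval_eq_zero (S := (Γ(Y, V) ⧸ C.J.comap (ν.app V).hom))
    (P := (Polynomial.X ^ n - Polynomial.C (mkA r))) (x := R) (by simpa using hnil) (by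
      simp only [Polynomial.derivative_sub, Polynomial.derivative_X_pow, Polynomial.derivative_C, sub_zero,
        Polynomial.aeval_mul, Polynomial.aeval_C, map_natCast, map_pow, Polynomial.aeval_X]
      exact hnQ.mul (hRu.pow _))
  simp only [Polynomial.aeval_sub, map_pow, Polynomial.aeval_X, Polynomial.aeval_C,
    Algebra.algebraMap_self, RingHom.id_apply, sub_eq_zero] at ht
  have hu₀ : IsNilpotent (mk u - i R) := by
    rw [hiR, ← map_sub]
    exact isNilpotent_mk ν f g C _ fun w hw hwV hwx => by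
      rw [map_sub, hc w hw hwV ρ hwx, h w hw hwV hwx, sub_self]
  have htt : IsNilpotent (i t - i R) := by
    rw [← map_sub, IsNilpotent.map_iff hi]
    have := ht₀.neg
    rwa [neg_sub] at this
  let N := nilradical (Γ(W, ν ⁻¹ᵁ V) ⧸ C.J)
  have hsum : IsUnit (∑ j ∈ Finset.range n, mk u ^ j * i t ^ (n - 1 - j)) := by
    have hmem : (∑ j ∈ Finset.range n, mk u ^ j * i t ^ (n - 1 - j)) - (n : _) * i R ^ (n - 1) ∈ N := by
      rw [← Ideal.Quotient.eq_zero_iff_mem, map_sub, map_sum, map_mul, map_natCast, map_pow]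
      have e1 : Ideal.Quotient.mk N (mk u) = Ideal.Quotient.mk N (i R) :=
        Ideal.Quotient.eq.2 (mem_nilradical.2 hu₀)
      have e2 : Ideal.Quotient.mk N (i t) = Ideal.Quotient.mk N (i R) :=
        Ideal.Quotient.eq.2 (mem_nilradical.2 htt)
      rw [sub_eq_zero, Finset.sum_congr rfl fun j hj => ?_, Finset.sum_const, Finset.card_range, nsmul_eq_mul]
      rw [map_mul, map_pow, map_pow, e1, e2, ← pow_add]
      congr 1
      have := Finset.mem_range.1 hj
      omega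
    have hu1 : IsUnit ((n : Γ(W, ν ⁻¹ᵁ V) ⧸ C.J) * i R ^ (n - 1)) := by
      have := hnQ.map i
      rw [map_natCast] at this
      exact this.mul ((hRu.map i).pow _)
    have := (mem_nilradical.1 hmem).isUnit_add_left_of_commute hu1 (Commute.all _ _)
    rwa [add_sub_cancel] at this
  have heq : mk u = i t := by
    refine sub_eq_zero.1 (hsum.mul_right_eq_zero.1 ?_)
    rw [geom_sum₂_mul, ← map_pow i, ht, show i (mkA r) = mk (ν.app V r) from rfl, hur, map_pow, sub_self]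
  obtain ⟨t₁, rfl⟩ := Ideal.Quotient.mk_surjective t
  have h3 : u - ν.app V t₁ ∈ C.J :=
    Ideal.Quotient.eq.1 (heq.trans (show i (mkA t₁) = mk (ν.app V t₁) from rfl))
  obtain ⟨a, ha⟩ := C.mem_range _ h3
  exact ⟨a + t₁, by rw [map_add, ha, sub_add_cancel]⟩

end Groth.ModelsGraphs.PicCount
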