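import Groth.Agent.ModelsGraphs.PicDiv.Proper

/-!
# Torsion classes along nilpotent thickenings
-/

set_option autoImplicit false
set_option linter.style.haveILetI false
set_option backward.isDefEq.respectTransparency false
set_option backward.defeqAttrib.useBackward true
set_option backward.isDefEq.respectTransparency.types false

universe u

open CategoryTheory CategoryTheory.Limits AlgebraicGeometry TopologicalSpace Opposite
open Groth.Abvar.PicCalc (pull)
open scoped Groth.Abvar.PicCalc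

namespace Groth.ModelsGraphs.PicCount

set_option maxHeartbeats 1600000

variable (k : Type u) [Field k] [IsAlgClosed k]

/-- Torsion classes do not see a nilpotent thickening. -/
theorem bijective_torsion_nilpotent : ∀ (m : ℕ) (Y Y₀ : Scheme.{u}) (f : Y ⟶ Spec (CommRingCat.of k))
    [IsProper f] (_ : topologicalKrullDim Y ≤ ((1 : ℕ) : WithBot ℕ∞)) (t : Y₀ ⟶ Y) [IsClosedImmersion t]
    (_ : t.ker ^ (m + 1) = ⊥) (q : ℕ) (_ : (q : k) ≠ 0),
    (∀ d : PicLoc.PicSet Y₀, d ^ q = 1 → ∃ c : PicLoc.PicSet Y, c ^ q = 1 ∧ pull t c = d) ∧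
      ∀ c : PicLoc.PicSet Y, c ^ q = 1 → pull t c = 1 → c = 1 := by
  intro m
  induction m with
  | zero =>
    intro Y Y₀ f _ _ t _ hI q _
    haveI : IsIso t := by
      rw [IsClosedImmersion.isIso_iff_ker_eq_bot]
      simpa using hI
    constructor
    · intro d hd
      refine ⟨pull (inv t) d, by rw [← map_pow, hd, map_one], ?_⟩
      rw [← Groth.Abvar.PicCalc.pull_comp, IsIso.hom_inv_id, Groth.Abvar.PicCalc.pull_id]
    · intro c _ hc
      rw [← Groth.Abvar.PicCalc.pull_id c, ← IsIso.inv_hom_id t, Groth.Abvar.PicCalc.pull_comp, hc, map_one]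
  | succ m ih =>
    intro Y Y₀ f _ hdim t _ hI q hq
    let J := t.ker ^ (m + 1)
    let Z := J.subscheme
    let s : Z ⟶ Y := J.subschemeι
    have hle : s.ker ≤ t.ker := by
      rw [Scheme.IdealSheafData.ker_subschemeι]
      intro U
      show (t.ker ^ (m + 1)).ideal U ≤ _
      rw [Scheme.IdealSheafData.ideal_pow, Pi.pow_apply]
      exact Ideal.pow_le_self m.succ_ne_zero
    let t₀ : Y₀ ⟶ Z := IsClosedImmersion.lift s t hle
    have ht₀ : t₀ ≫ s = t := IsClosedImmersion.lift_fac _ _ _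
    haveI : IsClosedImmersion (t₀ ≫ s) := ht₀ ▸ ‹IsClosedImmersion t›
    haveI : IsClosedImmersion t₀ := IsClosedImmersion.of_comp t₀ s
    have hk0 : t₀.ker ^ (m + 1) = ⊥ := by
      rw [Groth.AdicLinTop.Thickenings.ker_eq_comap_ker_comp t₀ s]
      simp only [ht₀]
      rw [← Groth.Divisors.comap_pow]
      exact Groth.GrpdFinStrata.comap_subschemeι_eq_bot (le_refl J)
    have hdZ : topologicalKrullDim Z ≤ ((1 : ℕ) : WithBot ℕ∞) :=
      s.isClosedEmbedding.isInducing.topologicalKrullDim_le.trans hdim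
    obtain ⟨ihs, ihi⟩ := ih Z Y₀ (s ≫ f) hdZ t₀ hk0 q hq
    have hts : ∀ c, pull t c = pull t₀ (pull s c) := fun c =>
      (congrArg (fun u => pull u c) ht₀.symm).trans (Groth.Abvar.PicCalc.pull_comp t₀ s c)
    have hJ : s.ker * s.ker = ⊥ := by
      rw [Scheme.IdealSheafData.ker_subschemeι, eq_bot_iff, ← hI]
      intro U
      simp only [J, Scheme.IdealSheafData.ideal_mul, Scheme.IdealSheafData.ideal_pow, Pi.mul_apply, Pi.pow_apply]
      rw [← pow_add]
      exact Ideal.pow_le_pow_right (by omega)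
    haveI : CompactSpace Y := QuasiCompact.compactSpace_of_compactSpace f
    haveI : IsLocallyNoetherian Y := LocallyOfFiniteType.isLocallyNoetherian f
    haveI : IsNoetherian Y := ⟨⟩
    have hqu : IsUnit (q : Γ(Y, ⊤)) := by
      have := (IsUnit.mk0 (q : k) hq).map (show k →+* Γ(Y, ⊤) from Coh.toGlobal f)
      rwa [map_natCast] at this
    have hroot := Groth.ModelsGraphs.PicDiv.roots_of_proper k (s ≫ f) q hq
    constructor
    · intro d hd
      obtain ⟨d', hd', hdd⟩ := ihs d hd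
      obtain ⟨e, he⟩ := Groth.ModelsGraphs.PicKernel.step_surjective s hJ
        (Groth.Inter.Vanishing.subsingleton_H_of_dim_le (d := 1) hdim _ 2 one_lt_two) d'
      obtain ⟨z, ⟨hz1, hz⟩, -⟩ := Groth.ModelsGraphs.PicKernel.step_root s hJ q hqu hroot (c := e ^ q)
        (by rw [map_pow, he, hd'])
      refine ⟨e / z, by rw [div_pow, hz, div_self'], ?_⟩
      rw [hts, map_div, hz1, div_one, he, hdd]
    · intro c hc hc1
      have h1 : pull s c = 1 := ihi _ (by rw [← map_pow, hc, map_one]) ((hts c).symm.trans hc1)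
      obtain ⟨z, -, hu⟩ := Groth.ModelsGraphs.PicKernel.step_root s hJ q hqu hroot (c := 1) (map_one _)
      exact (hu c ⟨h1, hc⟩).trans (hu 1 ⟨map_one _, one_pow q⟩).symm

/-- Counting form. -/
theorem card_torsion_nilpotent (m : ℕ) {Y Y₀ : Scheme.{u}} (f : Y ⟶ Spec (CommRingCat.of k)) [IsProper f]
    (hdim : topologicalKrullDim Y ≤ ((1 : ℕ) : WithBot ℕ∞)) (t : Y₀ ⟶ Y) [IsClosedImmersion t]
    (hI : t.ker ^ (m + 1) = ⊥) (q : ℕ) (hq : (q : k) ≠ 0) :
    Nat.card {c : PicLoc.PicSet Y // c ^ q = 1} = Nat.card {c : PicLoc.PicSet Y₀ // c ^ q = 1} := by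
  obtain ⟨hs, hi⟩ := bijective_torsion_nilpotent k m Y Y₀ f hdim t hI q hq
  refine Nat.card_congr (Equiv.ofBijective (fun c => ⟨pull t c.1, by rw [← map_pow, c.2, map_one]⟩)
    ⟨fun c c' h => ?_, fun d => ?_⟩)
  · have h' : pull t c.1 = pull t c'.1 := congrArg Subtype.val h
    exact Subtype.ext (div_eq_one.1 (hi (c.1 / c'.1) (by rw [div_pow, c.2, c'.2, div_one])
      (by rw [map_div, h', div_self'])))
  · obtain ⟨c, hc, hcd⟩ := hs d.1 d.2
    exact ⟨⟨c, hc⟩, Subtype.ext hcd⟩

end Groth.ModelsGraphs.PicCount
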