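import Groth.Agent.ModelsGraphs.PicCount.Decomp
import Groth.Agent.Curves1.CurveMor.Smooth
import Groth.Agent.PropsBasic.Generization
import Groth.Agent.ModelsGraphs.PicDim.TorsSep
import Groth.Agent.S6545
import Groth.Prelude.Def_Pi1

/-!
# Torsion and roots of unity on normal proper curves
-/

set_option autoImplicit false
set_option linter.style.haveILetI false
set_option backward.isDefEq.respectTransparency false
set_option backward.defeqAttrib.useBackward true
set_option backward.isDefEq.respectTransparency.types false

universe u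

open CategoryTheory CategoryTheory.Limits AlgebraicGeometry Opposite TopologicalSpace
open scoped Groth.Abvar.PicCalc

namespace Groth.ModelsGraphs.PicCount

set_option maxHeartbeats 1600000

variable {W : Scheme.{u}} (hW : Pi1.IsNormalScheme W)

include hW in
theorem component_inter_eq {Z Z' : Set W} (hZ : Z ∈ irreducibleComponents (W : Type u))
    (hZ' : Z' ∈ irreducibleComponents (W : Type u)) {w : W} (h : w ∈ Z) (h' : w ∈ Z') : Z = Z' :=
  (Groth.PropsBasic.existsUnique_irreducibleComponent (hW w).1).unique ⟨hZ, h⟩ ⟨hZ', h'⟩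

variable [IsNoetherian W]

include hW in
theorem isOpen_component {Z : Set W} (hZ : Z ∈ irreducibleComponents (W : Type u)) : IsOpen Z := by
  have hfin := TopologicalSpace.NoetherianSpace.finite_irreducibleComponents (α := (W : Type u))
  have h : Zᶜ = ⋃ Z' ∈ irreducibleComponents (W : Type u) \ {Z}, Z' := by
    ext w
    simp only [Set.mem_compl_iff, Set.mem_iUnion, Set.mem_sdiff, Set.mem_singleton_iff, exists_prop]
    refine ⟨fun hw => ⟨irreducibleComponent w, ⟨irreducibleComponent_mem_irreducibleComponents w,
      fun h => hw (h ▸ mem_irreducibleComponent)⟩, mem_irreducibleComponent⟩, ?_⟩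
    rintro ⟨Z', ⟨hZ', hne⟩, hw⟩ hwZ
    exact hne (component_inter_eq hW hZ' hZ hw hwZ)
  rw [← isClosed_compl_iff, h]
  exact (hfin.subset Set.sdiff_subset).isClosed_biUnion fun Z' hZ' =>
    isClosed_of_mem_irreducibleComponents Z' hZ'.1

/-- A component as an open. -/
def compOpens (Z : irreducibleComponents (W : Type u)) : W.Opens := ⟨Z.1, isOpen_component hW Z.2⟩

include hW in
theorem iSup_compOpens : iSup (compOpens hW) = ⊤ :=
  eq_top_iff.2 fun w _ => Opens.mem_iSup.2
    ⟨⟨irreducibleComponent w, irreducibleComponent_mem_irreducibleComponents w⟩, mem_irreducibleComponent⟩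

include hW in
theorem compOpens_disjoint (Z Z' : irreducibleComponents (W : Type u)) (h : Z ≠ Z') :
    compOpens hW Z ⊓ compOpens hW Z' = ⊥ :=
  eq_bot_iff.2 fun _ hw => (h (Subtype.ext (component_inter_eq hW Z.2 Z'.2 hw.1 hw.2))).elim

include hW in
/-- Locally constant functions on a normal scheme. -/
theorem card_locallyConstant (M : Type*) [Finite M] :
    Nat.card (LocallyConstant W M) = Nat.card M ^ Nat.card (irreducibleComponents (W : Type u)) := by
  haveI : Finite (irreducibleComponents (W : Type u)) :=
    (TopologicalSpace.NoetherianSpace.finite_irreducibleComponents (α := (W : Type u))).to_subtype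
  choose pt hpt using fun Z : irreducibleComponents (W : Type u) => Z.2.1.nonempty
  let cmp : W → irreducibleComponents (W : Type u) := fun w =>
    ⟨irreducibleComponent w, irreducibleComponent_mem_irreducibleComponents w⟩
  have hcmp : ∀ (Z : irreducibleComponents (W : Type u)) w, w ∈ Z.1 → cmp w = Z := fun Z w hw =>
    Subtype.ext (component_inter_eq hW (cmp w).2 Z.2 mem_irreducibleComponent hw)
  have hlc : IsLocallyConstant cmp := (IsLocallyConstant.iff_exists_open cmp).2 fun w =>
    ⟨(cmp w).1, isOpen_component hW (cmp w).2, mem_irreducibleComponent, fun v hv => hcmp _ _ hv⟩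
  rw [← Nat.card_fun]
  refine Nat.card_congr
    { toFun := fun μ Z => μ (pt Z)
      invFun := fun φ => ⟨φ ∘ cmp, hlc.comp φ⟩
      left_inv := fun μ => LocallyConstant.ext fun w => ?_
      right_inv := fun φ => funext fun Z => congrArg φ (hcmp Z _ (hpt Z)) }
  show μ (pt (cmp w)) = μ w
  exact μ.isLocallyConstant.apply_eq_of_isPreconnected (cmp w).2.1.isPreirreducible.isPreconnected
    (hpt _) mem_irreducibleComponent

variable {k : Type u} [Field k] [IsAlgClosed k] [W.Over (Spec (CommRingCat.of k))]
  [IsProper (W ↘ Spec (CommRingCat.of k))]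

include hW in
/-- Torsion of the Picard group of a normal proper curve. -/
theorem card_torsion_normal (hdim : ∀ Z ∈ irreducibleComponents (W : Type u), topologicalKrullDim Z = 1)
    {n : ℕ} (hn : (n : k) ≠ 0) :
    Nat.card {c : PicLoc.PicSet W // c ^ n = 1} = n ^ (2 * Curv2.genus k W) := by
  haveI : Fintype (irreducibleComponents (W : Type u)) :=
    (TopologicalSpace.NoetherianSpace.finite_irreducibleComponents (α := (W : Type u))).fintype
  rw [card_torsion_opens (compOpens hW) n (iSup_compOpens hW) (compOpens_disjoint hW),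
    genus_opens (compOpens hW) k (iSup_compOpens hW) (compOpens_disjoint hW), Finset.mul_sum,
    ← Finset.prod_pow_eq_pow_sum]
  refine Finset.prod_congr rfl fun Z _ => ?_
  let U := compOpens hW Z
  letI : (U : Scheme.{u}).Over (Spec (CommRingCat.of k)) := ⟨U.ι ≫ W ↘ Spec (CommRingCat.of k)⟩
  haveI : IsClosedImmersion U.ι :=
    isClosedImmersion_ι (compOpens hW) (iSup_compOpens hW) (compOpens_disjoint hW) Z
  haveI : IsProper ((U : Scheme.{u}) ↘ Spec (CommRingCat.of k)) :=
    inferInstanceAs (IsProper (U.ι ≫ W ↘ Spec (CommRingCat.of k)))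
  haveI : IrreducibleSpace (U : Scheme.{u}) := Subtype.irreducibleSpace Z.2.1
  haveI : AlgebraicGeometry.IsReduced W := by
    haveI : ∀ x : W, _root_.IsReduced (W.presheaf.stalk x) := fun x => by
      haveI := (hW x).1
      infer_instance
    exact isReduced_of_isReduced_stalk W
  haveI : AlgebraicGeometry.IsReduced (U : Scheme.{u}) := isReduced_of_isOpenImmersion U.ι
  haveI : IsIntegral (U : Scheme.{u}) := isIntegral_of_irreducibleSpace_of_isReduced _
  have hd : topologicalKrullDim (U : Scheme.{u}) = 1 := hdim Z.1 Z.2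
  haveI : ∀ x : (U : Scheme.{u}), IsIntegrallyClosed ((U : Scheme.{u}).presheaf.stalk x) := fun x => by
    haveI := (hW (U.ι x)).1
    haveI := (hW (U.ι x)).2
    exact IsIntegrallyClosed.of_equiv (asIso (U.ι.stalkMap x)).commRingCatIsoToRingEquiv
  haveI : Smooth ((U : Scheme.{u}) ↘ Spec (CommRingCat.of k)) := by
    haveI : LocallyOfFinitePresentation ((U : Scheme.{u}) ↘ Spec (CommRingCat.of k)) := inferInstance
    haveI : JacobsonSpace (U : Scheme.{u}) :=
      LocallyOfFiniteType.jacobsonSpace ((U : Scheme.{u}) ↘ Spec (CommRingCat.of k))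
    rw [← Scheme.Hom.smoothLocus_eq_top_iff]
    refine top_le_iff.1 fun z _ => ?_
    obtain ⟨m, hm, hmc⟩ := nonempty_inter_closedPoints (Z := closure {z})
      ⟨z, subset_closure rfl⟩ isClosed_closure.isLocallyClosed
    refine (specializes_iff_mem_closure.2 hm).mem_open
      ((U : Scheme.{u}) ↘ Spec (CommRingCat.of k)).smoothLocus.isOpen ?_
    refine Groth.Curves1.CurveMor.mem_smoothLocus_of_normal hd.le m ?_
    letI := Curv2.resAlgebra k (U : Scheme.{u}) m
    haveI : Module.Finite k ((U : Scheme.{u}).residueField m) :=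
      Groth.Curves1.CurveMor.finite_residueField_of_isClosed hmc
    infer_instance
  exact (Groth.ModelsGraphs.PicDim.card_cl_eq (U : Scheme.{u}) n).symm.trans
    (Groth.Agent.S6545.result k (U : Scheme.{u}) hd n (IsUnit.mk0 _ hn))

end Groth.ModelsGraphs.PicCount
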