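import Groth.Agent.ModelsGraphs.PicCount.Count
import Groth.Agent.ModelsGraphs.PicCount.Smooth
import Groth.Agent.ModelsGraphs.PicCount.Reduce
import Groth.Agent.ModelsGraphs.PicCount.BranchCount
import Groth.Agent.AlgSp3.RedInduced
import Groth.Agent.AbvarAmple.KLBaseChange
import Groth.Agent.AbVarMul.Consequences
import Groth.Agent.S9679
import Groth.Agent.VarietyBC.AffineNhd
import Groth.Agent.VarietyBC.GeomReducedGeneric
import Groth.Agent.PropsBasic2.SchTop
import Groth.Prelude.Def_Brnch

/-!
# The torsion of the Picard group of a curve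
-/

set_option autoImplicit false
set_option linter.style.haveILetI false
set_option backward.isDefEq.respectTransparency false
set_option backward.defeqAttrib.useBackward true
set_option backward.isDefEq.respectTransparency.types false

universe u

open CategoryTheory CategoryTheory.Limits AlgebraicGeometry Opposite TopologicalSpace
open Groth.PropsBasic2 (closure_mem_irreducibleComponents_iff)
open scoped Groth.Abvar.PicCalc

namespace Groth.ModelsGraphs.PicCount

set_option maxHeartbeats 2000000

/-- Components and generic points. -/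
theorem card_components_eq (X : Scheme.{u}) :
    Nat.card {x : X // closure ({x} : Set X) ∈ irreducibleComponents (X : Type u)} =
      Nat.card (irreducibleComponents (X : Type u)) := by
  refine Nat.card_congr (Equiv.ofBijective (fun x => ⟨closure {x.1}, x.2⟩) ⟨fun a b h => ?_, fun Z => ?_⟩)
  · exact Subtype.ext (IsGenericPoint.eq (S := closure ({a.1} : Set X)) rfl
      (congrArg Subtype.val h : closure ({a.1} : Set X) = closure {b.1}).symm)
  · obtain ⟨z, hz⟩ := QuasiSober.sober Z.2.1 (isClosed_of_mem_irreducibleComponents Z.1 Z.2)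
    exact ⟨⟨z, by rw [hz.def]; exact Z.2⟩, Subtype.ext hz.def⟩

theorem surjective_residueFieldMap_of_comp {A B C : Scheme.{u}} (ν : A ⟶ B) (t : B ⟶ C) {π : A ⟶ C}
    (h : ν ≫ t = π) (w : A) (hs : Function.Surjective (π.residueFieldMap w).hom) :
    Function.Surjective (ν.residueFieldMap w).hom := fun b => by
  subst h
  obtain ⟨c, hc⟩ := hs b
  rw [Scheme.residueFieldMap_comp] at hc
  exact ⟨_, hc⟩

variable {k : Type u} [Field k] [IsAlgClosed k] {X W : Scheme.{u}} (f : X ⟶ Spec (CommRingCat.of k))
  [IsProper f] [ConnectedSpace X] (π : W ⟶ X) [IsFinite π]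

open Classical in
/-- The torsion of the Picard group against the fibres over the bad points. -/
theorem exists_count (hequi : ∀ Z ∈ irreducibleComponents (X : Type u), topologicalKrullDim Z = 1)
    (hW : Pi1.IsNormalScheme W)
    (hbij : Set.BijOn (fun w : W => π w) {w : W | closure ({w} : Set W) ∈ irreducibleComponents (W : Type u)}
      {x : X | closure ({x} : Set X) ∈ irreducibleComponents (X : Type u)})
    (hres : ∀ w : W, closure ({w} : Set W) ∈ irreducibleComponents (W : Type u) →
      Function.Bijective (π.residueFieldMap w).hom) :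
    letI : W.Over (Spec (CommRingCat.of k)) := ⟨π ≫ f⟩
    ∃ P S : ℕ,
      (∑ᶠ x : X, (if IsClosed ({x} : Set X) then (((Brnch.numBranchesAt X x).toNat : ℤ) - 1) else 0)) =
        (P : ℤ) - S ∧
      ∀ m : ℕ, (m : k) ≠ 0 →
        Nat.card {c : PicLoc.PicSet X // c ^ m = 1} * m ^ (Nat.card (irreducibleComponents (X : Type u)) + S) =
          m ^ (2 * Curv2.genus k W + P + 1) := by
  classical
  letI : W.Over (Spec (CommRingCat.of k)) := ⟨π ≫ f⟩
  haveI : IsProper (W ↘ Spec (CommRingCat.of k)) := inferInstanceAs (IsProper (π ≫ f))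
  haveI : CompactSpace X := QuasiCompact.compactSpace_of_compactSpace f
  haveI : IsLocallyNoetherian X := LocallyOfFiniteType.isLocallyNoetherian f
  haveI : AlgebraicGeometry.IsNoetherian X := ⟨⟩
  haveI : CompactSpace W := QuasiCompact.compactSpace_of_compactSpace (π ≫ f)
  haveI : IsLocallyNoetherian W := LocallyOfFiniteType.isLocallyNoetherian (π ≫ f)
  haveI : AlgebraicGeometry.IsNoetherian W := ⟨⟩
  haveI : AlgebraicGeometry.IsReduced W := by
    haveI : ∀ x : W, _root_.IsReduced (W.presheaf.stalk x) := fun x => by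
      haveI := (hW x).1
      infer_instance
    exact isReduced_of_isReduced_stalk W
  haveI : Surjective π := by
    refine ⟨fun x => ?_⟩
    obtain ⟨z, hz, hzx⟩ := Groth.PropsBasic2.exists_genericPoint_specializes x
    obtain ⟨w, -, rfl⟩ := hbij.surjOn hz
    exact hzx.mem_closed π.isClosedMap.isClosed_range ⟨w, rfl⟩
  let Y := X.nilradical.subscheme
  let t : Y ⟶ X := X.nilradical.subschemeι
  haveI : AlgebraicGeometry.IsReduced Y := Groth.PropsBasic2.isReduced_nilradical_subscheme X
  have hker : π.ker = X.nilradical := by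
    rw [Groth.AlgSp3.ker_eq_vanishingIdeal_of_isReduced π, ← Scheme.IdealSheafData.vanishingIdeal_top]
    congr 1
    ext1
    simp [π.surjective.range_eq]
  have hle : t.ker ≤ π.ker := by rw [Scheme.IdealSheafData.ker_subschemeι, hker]
  let ν : W ⟶ Y := IsClosedImmersion.lift t π hle
  have hνt : ν ≫ t = π := IsClosedImmersion.lift_fac _ _ _
  haveI : IsFinite (ν ≫ t) := hνt ▸ ‹IsFinite π›
  haveI : IsFinite ν := MorphismProperty.of_postcomp (W' := @IsSeparated) _ ν t inferInstance inferInstance
  haveI : Surjective t := by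
    refine ⟨fun x => ?_⟩
    obtain ⟨w, hw⟩ := π.surjective x
    exact ⟨ν w, by rw [← Scheme.Hom.comp_apply, hνt, hw]⟩
  haveI : Surjective ν := by
    refine ⟨fun y => ?_⟩
    obtain ⟨w, hw⟩ := π.surjective (t y)
    exact ⟨w, t.isClosedEmbedding.injective (by rw [← Scheme.Hom.comp_apply, hνt, hw])⟩
  have htw : ∀ w, t (ν w) = π w := fun w => by rw [← Scheme.Hom.comp_apply, hνt]
  let fY : Y ⟶ Spec (CommRingCat.of k) := t ≫ f
  have htbij : Function.Bijective t.base := ⟨t.isClosedEmbedding.injective, t.surjective⟩
  haveI : ConnectedSpace Y := by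
    have e : Y ≃ₜ X := t.isClosedEmbedding.toHomeomorphOfSurjective t.surjective
    exact e.symm.surjective.connectedSpace e.symm.continuous
  have hspec : ∀ y y' : Y, t y ⤳ t y' ↔ y ⤳ y' := fun y y' => t.isEmbedding.isInducing.specializes_iff
  have hgenY : ∀ y : Y, closure ({y} : Set Y) ∈ irreducibleComponents (Y : Type u) ↔
      closure ({t y} : Set X) ∈ irreducibleComponents (X : Type u) := fun y => by
    rw [closure_mem_irreducibleComponents_iff, closure_mem_irreducibleComponents_iff]
    constructor
    · intro h z hz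
      obtain ⟨z, rfl⟩ := t.surjective z
      rw [h z ((hspec _ _).1 hz)]
    · exact fun h z hz => t.isClosedEmbedding.injective (h _ ((hspec _ _).2 hz))
  have hdimX : topologicalKrullDim X ≤ ((1 : ℕ) : WithBot ℕ∞) := by
    haveI : Finite (irreducibleComponents (X : Type u)) :=
      (TopologicalSpace.NoetherianSpace.finite_irreducibleComponents (α := (X : Type u))).to_subtype
    exact Groth.AbvarAmple.topologicalKrullDim_le_of_finite_cover
      (fun Z : irreducibleComponents (X : Type u) => Z.1)
      (fun Z => isClosed_of_mem_irreducibleComponents Z.1 Z.2)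
      (fun x => ⟨⟨irreducibleComponent x, irreducibleComponent_mem_irreducibleComponents x⟩,
        mem_irreducibleComponent⟩)
      (fun Z => (hequi Z.1 Z.2).le)
  have hncX : ∀ x : X, closure ({x} : Set X) ∈ irreducibleComponents (X : Type u) → ¬ IsClosed ({x} : Set X) := by
    intro x hx hc
    have h1 := hequi _ hx
    haveI : Subsingleton (closure ({x} : Set X)) := ⟨fun a b => Subtype.ext (by
      have ha : a.1 ∈ ({x} : Set X) := hc.closure_eq.le a.2
      have hb : b.1 ∈ ({x} : Set X) := hc.closure_eq.le b.2
      exact ha.trans hb.symm)⟩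
    haveI : Nonempty (closure ({x} : Set X)) := ⟨⟨x, subset_closure rfl⟩⟩
    have h0 := topologicalKrullDim_zero_of_discreteTopology (closure ({x} : Set X))
    rw [h1] at h0
    exact not_le.2 zero_lt_one h0
  have hclY : ∀ y : Y, IsClosed ({y} : Set Y) ↔ IsClosed ({t y} : Set X) := fun y => by
    rw [t.isClosedEmbedding.isClosed_iff_image_isClosed, Set.image_singleton]
  have hmax : ∀ x : X, ¬ IsClosed ({x} : Set X) → closure ({x} : Set X) ∈ irreducibleComponents (X : Type u) :=
    fun x hx => (closure_mem_irreducibleComponents_iff x).2 fun z hz =>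
      @Groth.EulerDeg.eq_of_specializes_of_not_isClosed X.toTopCat (inferInstanceAs (T0Space X))
        (inferInstance : QuasiSober X) hdimX x z hx hz
  -- birationality
  have hbijν : Set.BijOn (fun w : W => ν.base w) {w : W | closure ({w} : Set W) ∈ irreducibleComponents (W : Type u)}
      {y : Y | closure ({y} : Set Y) ∈ irreducibleComponents (Y : Type u)} := by
    refine ⟨fun w hw => ?_, fun a ha b hb h => ?_, fun y hy => ?_⟩
    · show closure ({ν w} : Set Y) ∈ irreducibleComponents (Y : Type u)
      rw [hgenY, htw]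
      exact hbij.mapsTo hw
    · refine hbij.injOn ha hb ?_
      show π a = π b
      rw [← htw, ← htw]
      exact congrArg t.base h
    · obtain ⟨w, hw, hwy⟩ := hbij.surjOn (show t y ∈ _ from (hgenY y).1 hy)
      exact ⟨w, hw, t.isClosedEmbedding.injective ((htw w).trans hwy)⟩
  have hiso : ∀ w : W, closure ({w} : Set W) ∈ irreducibleComponents (W : Type u) → IsIso (ν.stalkMap w) := by
    intro w hw
    have fW := Groth.VarietyBC.AffineNhd.isField_stalk ((closure_mem_irreducibleComponents_iff w).1 hw)
    have fY' := Groth.VarietyBC.AffineNhd.isField_stalk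
      ((closure_mem_irreducibleComponents_iff (ν w)).1 (hbijν.mapsTo hw))
    letI := fY'.toField
    rw [ConcreteCategory.isIso_iff_bijective]
    refine ⟨(ν.stalkMap w).hom.injective, fun a => ?_⟩
    have hr : Function.Surjective (ν.residueFieldMap w).hom :=
      surjective_residueFieldMap_of_comp ν t hνt w (hres w hw).2
    obtain ⟨b, hb⟩ := hr (W.residue w a)
    obtain ⟨b', rfl⟩ := Y.residue_surjective (ν w) b
    refine ⟨b', ?_⟩
    have h2 : W.residue w (ν.stalkMap w b') = W.residue w a := by
      rw [← hb, ← CommRingCat.comp_apply, ← CommRingCat.comp_apply, Scheme.residue_residueFieldMap]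
    rw [← sub_eq_zero]
    have h3 : ν.stalkMap w b' - a ∈ IsLocalRing.maximalIdeal (W.presheaf.stalk w) :=
      (IsLocalRing.residue_eq_zero_iff _).1 (by rw [map_sub]; exact sub_eq_zero.2 h2)
    rwa [(IsLocalRing.isField_iff_maximalIdeal_eq.1 fW), Ideal.mem_bot] at h3
  obtain ⟨V₀, hV₀, hisoV⟩ := Groth.Agent.S9679.result ν
    (TopologicalSpace.NoetherianSpace.finite_irreducibleComponents (α := (W : Type u)))
    (by
      haveI : CompactSpace Y := QuasiCompact.compactSpace_of_compactSpace fY
      haveI : IsLocallyNoetherian Y := LocallyOfFiniteType.isLocallyNoetherian fY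
      haveI : AlgebraicGeometry.IsNoetherian Y := ⟨⟩
      exact TopologicalSpace.NoetherianSpace.finite_irreducibleComponents (α := (Y : Type u)))
    hbijν hiso (Or.inl inferInstance) (Or.inl ⟨inferInstance, inferInstance⟩)
  haveI := hisoV
  let S : Set Y := (V₀ : Set Y)ᶜ
  haveI : CompactSpace Y := QuasiCompact.compactSpace_of_compactSpace fY
  haveI : IsLocallyNoetherian Y := LocallyOfFiniteType.isLocallyNoetherian fY
  haveI : AlgebraicGeometry.IsNoetherian Y := ⟨⟩
  have hSc : ∀ s ∈ S, IsClosed ({s} : Set Y) := by
    intro s hs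
    by_contra hc
    have hgen := hmax (t s) (fun h => hc ((hclY s).2 h))
    -- generic points lie in dense opens
    have hs' := (hgenY s).2 hgen
    let U : Set Y := (⋃ Z ∈ irreducibleComponents (Y : Type u) \ {closure {s}}, Z)ᶜ
    have hU : IsOpen U := (((TopologicalSpace.NoetherianSpace.finite_irreducibleComponents
      (α := (Y : Type u))).subset Set.sdiff_subset).isClosed_biUnion fun Z hZ =>
        isClosed_of_mem_irreducibleComponents Z hZ.1).isOpen_compl
    have hsU : s ∈ U := by
      intro h
      obtain ⟨Z, hZ, hsZ⟩ := Set.mem_iUnion₂.1 h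
      exact hZ.2 (le_antisymm (hs'.2 hZ.1.1
        (closure_minimal (Set.singleton_subset_iff.2 hsZ) (isClosed_of_mem_irreducibleComponents Z hZ.1)))
        (closure_minimal (Set.singleton_subset_iff.2 hsZ) (isClosed_of_mem_irreducibleComponents Z hZ.1)))
    obtain ⟨y, hyU, hyV⟩ := hV₀.inter_open_nonempty U hU ⟨s, hsU⟩
    have hys : s ⤳ y := by
      rw [specializes_iff_mem_closure]
      by_contra hne
      refine hyU (Set.mem_iUnion₂.2 ⟨irreducibleComponent y, ⟨irreducibleComponent_mem_irreducibleComponents y,
        fun h => hne (h ▸ mem_irreducibleComponent)⟩, mem_irreducibleComponent⟩)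
    exact hs (hys.mem_open V₀.isOpen hyV)
  have hS : S.Finite := Groth.ModelsGraphs.PicDiv.finite_of_closed_points V₀.isOpen.isClosed_compl hSc
  have hb : ∀ V : Y.Opens, (∀ y ∈ V, y ∉ S) → Function.Bijective (ν.app V) := fun V hV =>
    Groth.VarietyBC.PicGlue.bijective_app_of_isIso_restrict ν V₀ V fun y hy => not_not.1 (hV y hy)
  have hνf : ν ≫ fY = W ↘ Spec (CommRingCat.of k) := by
    show ν ≫ t ≫ f = π ≫ f
    rw [← Category.assoc, hνt]
  have hgenW : ∀ w : W, (∀ z, z ⤳ w → z = w) → ¬ IsClosed ({ν w} : Set Y) := fun w hw h => by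
    have hw' := hbij.mapsTo ((closure_mem_irreducibleComponents_iff w).2 hw)
    exact hncX _ hw' (by
      have := (hclY (ν w)).1 h
      rwa [htw] at this)
  refine ⟨Nat.card {w : W // ν w ∈ S}, Nat.card S, ?_, fun m hm => ?_⟩
  · haveI : Finite {w : W // ν w ∈ S} := finite_over (ν := ν) hS hSc
    have hbr : ∀ y : Y, IsClosed ({y} : Set Y) →
        (Brnch.numBranchesAt X (t y)).toNat = Nat.card {w : W // ν w = y} := fun y hy => by
      rw [numBranchesAt_eq_card t ν hW f hS hSc hb hgenW hy]
      rfl
    have hone : ∀ y : Y, IsClosed ({y} : Set Y) → y ∉ S → Nat.card {w : W // ν w = y} = 1 := fun y _ hy => by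
      rw [Nat.card_eq_one_iff_unique]
      refine ⟨⟨fun a b => Subtype.ext (subsingleton_fibre ν V₀.isOpen.isClosed_compl hb (a.2.trans b.2.symm) (a.2.symm ▸ hy))⟩, ?_⟩
      obtain ⟨w, hw⟩ := ν.surjective y
      exact ⟨⟨w, hw⟩⟩
    rw [finsum_eq_sum_of_support_subset _ (s := hS.toFinset.image t.base) ?_, Finset.sum_image fun a _ b _ h => t.isClosedEmbedding.injective h]
    · rw [Finset.sum_congr rfl (g := fun y => (Nat.card {w : W // ν w = y} : ℤ) - 1) fun y hy => by
        rw [if_pos ((hclY y).1 (hSc y (hS.mem_toFinset.1 hy))), hbr y (hSc y (hS.mem_toFinset.1 hy))],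
        Finset.sum_sub_distrib, ← Nat.cast_sum, Finset.sum_const, nsmul_eq_mul, mul_one,
        Nat.card_eq_card_finite_toFinset hS]
      congr 2
      let e : {w : W // ν w ∈ S} ≃ Σ y : S, {w : W // ν w = y.1} :=
        { toFun := fun w => ⟨⟨ν w.1, w.2⟩, w.1, rfl⟩
          invFun := fun p => ⟨p.2.1, p.2.2.symm ▸ p.1.2⟩
          left_inv := fun w => rfl
          right_inv := fun ⟨⟨y, hy⟩, w, hw⟩ => by
            change ν w = y at hw
            subst hw; rfl }
      haveI : Fintype S := hS.fintype
      haveI : ∀ y : S, Finite {w : W // ν w = y.1} := fun y =>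
        (ν.finite_preimage_singleton y.1).to_subtype
      rw [Nat.card_congr e, Nat.card_sigma, Finset.sum_subtype hS.toFinset (fun y => hS.mem_toFinset)
        (fun y => Nat.card {w : W // ν w = y})]
    · intro x hx
      rw [Function.mem_support] at hx
      obtain ⟨y, rfl⟩ := t.surjective x
      by_cases hc : IsClosed ({t y} : Set X)
      · rw [if_pos hc, hbr y ((hclY y).2 hc)] at hx
        rw [Finset.coe_image]
        refine ⟨y, hS.mem_toFinset.2 (by_contra fun hy => hx ?_), rfl⟩
        rw [hone y ((hclY y).2 hc) hy]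
        simp
      · rw [if_neg hc] at hx
        exact absurd rfl hx
  · have h1 := card_torsion (f := fY) hνf hS hSc hb hm
      (Groth.ModelsGraphs.PicDiv.roots_of_proper k (W ↘ Spec (CommRingCat.of k)) m hm)
    haveI : NeZero m := ⟨fun h => hm (by rw [h, Nat.cast_zero])⟩
    haveI : NeZero (m : k) := ⟨hm⟩
    have hdimW : ∀ Z ∈ irreducibleComponents (W : Type u), topologicalKrullDim Z = 1 := by
      intro Z hZ
      refine le_antisymm ?_ ?_
      · refine (Topology.IsEmbedding.subtypeVal.isInducing.topologicalKrullDim_le).trans ?_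
        rw [Groth.AbVarMul.topologicalKrullDim_eq_of_finite_surjective π]
        exact hdimX
      · obtain ⟨w, hw⟩ := QuasiSober.sober hZ.1 (isClosed_of_mem_irreducibleComponents Z hZ)
        haveI : JacobsonSpace W := LocallyOfFiniteType.jacobsonSpace (π ≫ f)
        obtain ⟨v, hv, hvc⟩ := nonempty_inter_closedPoints (Z := Z) hZ.1.nonempty
          (isClosed_of_mem_irreducibleComponents Z hZ).isLocallyClosed
        let z : Z := ⟨v, hv⟩
        have hzc : IsClosed ({z} : Set Z) := by
          have := (show IsClosed ({v} : Set W) from hvc).preimage (continuous_subtype_val (p := (· ∈ Z)))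
          convert this
          ext a
          exact Subtype.ext_iff
        haveI : PreirreducibleSpace Z := Subtype.preirreducibleSpace hZ.1.isPreirreducible
        refine Order.one_le_krullDim_iff.2 ⟨⟨{z}, isIrreducible_singleton, hzc⟩,
          ⟨Set.univ, ⟨⟨z, trivial⟩, PreirreducibleSpace.isPreirreducible_univ⟩, isClosed_univ⟩, ?_⟩
        refine lt_of_le_of_ne (fun a _ => trivial) fun h => ?_
        have h2 : ({z} : Set Z) = Set.univ := congrArg IrreducibleCloseds.carrier h
        have hwz : (⟨w, hw.mem⟩ : Z) = z := h2.ge (Set.mem_univ _)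
        have hwv : w = v := congrArg Subtype.val hwz
        subst hwv
        have hgw : closure ({w} : Set W) ∈ irreducibleComponents (W : Type u) := by rw [hw.def]; exact hZ
        exact hgenW w ((closure_mem_irreducibleComponents_iff w).1 hgw)
          (by simpa using ν.isClosedMap _ (show IsClosed ({w} : Set W) from hvc))
    rw [card_torsion_normal hW hdimW hm, card_locallyConstant hW,
      HasEnoughRootsOfUnity.natCard_rootsOfUnity k m] at h1
    have hcW : Nat.card (irreducibleComponents (W : Type u)) = Nat.card (irreducibleComponents (X : Type u)) := by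
      rw [← card_components_eq W, ← card_components_eq X]
      exact Nat.card_congr hbij.equiv
    obtain ⟨j, hj⟩ := Groth.ModelsGraphs.PicDiv.exists_nilradical_pow_eq_bot X
    rw [card_torsion_nilpotent k j f hdimX t (by rw [Scheme.IdealSheafData.ker_subschemeι]; exact hj) m hm,
      ← hcW, pow_add, ← mul_assoc, h1, pow_add, pow_one, pow_add]

end Groth.ModelsGraphs.PicCount
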